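import Cfsg.Agent.Hay.Conic

/-! The action of `N(M)` on `M`. -/

set_option autoImplicit false

namespace Cfsg.Agent.Hay

open Cfsg Subgroup Matrix Cfsg.Agent.RootSub Cfsg.Agent.PLocal.Amb
open scoped MatrixGroups

variable {F : Type*} [Field F]

/-- `mm` uncurried. -/
def mv (v : F × F × F) : CM F := mm v.1 v.2.1 v.2.2

theorem mv_add (v w : F × F × F) : mv (v + w) = mv v * mv w := (mm_mul ..).symm
theorem mv_inj : Function.Injective (mv : _ → CM F) := fun _ _ h =>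
  Prod.ext (mm_inj h).1 (Prod.ext (mm_inj h).2.1 (mm_inj h).2.2)

theorem bb_conj' (s : F) (l : Fˣ) (v : F × F × F) : bb s l * mv v * (bb s l)⁻¹ = mv (sy 1 (s * l) 0 l v) := by
  rw [mv, bb_conj]; simp only [mv, sy]; congr 1 <;> ring

theorem borel_conj (a b c s : F) (l : Fˣ) (v : F × F × F) :
    mm a b c * bb s l * mv v * (mm a b c * bb s l)⁻¹ = mv (sy 1 (s * l) 0 l v) := by
  rw [show mm a b c * bb s l * mv v * (mm a b c * bb s l)⁻¹ = mm a b c * (bb s l * mv v * (bb s l)⁻¹) *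
    (mm a b c)⁻¹ by group, bb_conj', mv, mm_mul, mm_inv, mm_mul]
  congr 1 <;> ring

theorem borel_pow {g : SL(2, F)} (h : g 1 0 = 0) (n : ℕ) : (g ^ n) 1 0 = 0 ∧ (g ^ n) 0 0 = g 0 0 ^ n := by
  induction n with
  | zero => simp
  | succ n ih => rw [pow_succ, sl2_mul_apply, sl2_mul_apply, ih.1, ih.2, h]; simp [pow_succ]

theorem nsq_of [Fintype F] (h : Fintype.card F % 4 = 3) : ¬ IsSquare (-1 : F) := by
  rw [FiniteField.isSquare_neg_one_iff]; simpa using h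

theorem sq_of [Finite F] (h : ¬ IsSquare (-1 : F)) (a : F) : IsSquare a ∨ IsSquare (-a) := by
  classical
  have := Fintype.ofFinite F
  by_contra h1
  rw [not_or, ← quadraticChar_neg_one_iff_not_isSquare, ← quadraticChar_neg_one_iff_not_isSquare,
    ← neg_one_mul a, map_mul, quadraticChar_neg_one_iff_not_isSquare.2 h] at h1
  omega

namespace HS

variable {G : Type*} [Group G] {ι : CM F →* G} (h : HS ι)
include h

theorem conj (g : G) : HS ((MulAut.conj g).toMonoidHom.comp ι) :=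
  ⟨h.two, (MulAut.conj g).injective.comp h.inj, fun a ha => by
    rw [MonoidHom.range_comp, ← h.cent a ha]; exact centralizer_singleton_conj ..⟩

theorem bb_norm (s : F) (l : Fˣ) [Finite G] : ι (bb s l) ∈ 𝐍[(M0 F).map ι] :=
  mem_normalizer_of_cj_le (cj_le_iff_forall.2 (by
    rintro _ ⟨_, ⟨v, rfl⟩, rfl⟩
    rw [← map_inv, ← map_mul, ← map_mul]
    exact mem_map_of_mem ι (bb_conj' s l v.toAdd ▸ mm_mem ..)))

theorem borel_of_mem {p : CM F} (hp : ι p ∈ 𝐍[(M0 F).map ι]) : p.g 1 0 = 0 :=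
  borel_of_norm ((mem_map_iff_mem h.inj).1 (by
    rw [map_mul, map_mul, map_inv]; exact (mem_normalizer_iff.1 hp _).1 (mem_map_of_mem ι (mm_mem ..))))

theorem exists_rho : ∃ ρ : 𝐍[(M0 F).map ι] →* Equiv.Perm (F × F × F),
    ∀ n v, ι (mv (ρ n v)) = n * ι (mv v) * (n : G)⁻¹ := by
  have k : ∀ (n : 𝐍[(M0 F).map ι]) v, ∃ w, ι (mv w) = n * ι (mv v) * (n : G)⁻¹ := fun n v => by
    obtain ⟨_, ⟨w, rfl⟩, e⟩ := (mem_normalizer_iff.1 n.2 _).1 (mem_map_of_mem ι (show mv v ∈ _ from mm_mem ..))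
    exact ⟨w.toAdd, e⟩
  choose f hf using k
  refine ⟨MonoidHom.toHomPerm ⟨⟨f, funext fun v => mv_inj (h.inj ?_)⟩, fun n m => funext fun v =>
    mv_inj (h.inj ?_)⟩, hf⟩
  · rw [hf]; simp; rfl
  · change _ = ι (mv (f n (f m v)))
    rw [hf, hf, hf, coe_mul]; group

section Rho
variable {ρ : 𝐍[(M0 F).map ι] →* Equiv.Perm (F × F × F)} (hρ : ∀ n v, ι (mv (ρ n v)) = n * ι (mv v) * (n : G)⁻¹)
include hρ

theorem rho_eq {n : 𝐍[(M0 F).map ι]} {v w : F × F × F} : ρ n v = w ↔ n * ι (mv v) * (n : G)⁻¹ = ι (mv w) := by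
  rw [← hρ, h.inj.eq_iff, mv_inj.eq_iff]

theorem rho_eq_one {n : 𝐍[(M0 F).map ι]} : ρ n = 1 ↔ (n : G) ∈ (M0 F).map ι := by
  refine Iff.trans ?_ (SetLike.ext_iff.1 h.cent_M _)
  rw [Equiv.ext_iff]
  refine ⟨fun e => ?_, fun e v => (h.rho_eq hρ).2 ?_⟩
  · rintro _ ⟨_, ⟨v, rfl⟩, rfl⟩
    exact (mul_inv_eq_iff_eq_mul.1 ((h.rho_eq hρ).1 (e v.toAdd))).symm
  · exact mul_inv_eq_iff_eq_mul.2 (e _ (mem_map_of_mem ι (mm_mem ..))).symm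

theorem ch [Finite G] (nsq : ¬ IsSquare (-1 : F))
    (nt : ∃ a b : F, a ≠ 0 ∧ b ≠ 0 ∧ ∀ g : G, g * ι (mm a 0 0) * g⁻¹ ≠ ι (mm b 0 0)) : CH ρ := by
  have := h.fin
  refine ⟨fun n v w => (h.rho_eq hρ).2 ?_, fun s l hl => ⟨⟨_, h.bb_norm (s / l) (Units.mk0 l hl)⟩, fun v =>
    (h.rho_eq hρ).2 ?_⟩, fun n a ha e => ?_, ?_, nsq, sq_of nsq⟩
  · rw [mv_add, mv_add, map_mul, map_mul, hρ, hρ]; group
  · rw [← map_inv, ← map_mul, ← map_mul, bb_conj']; simp [hl]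
  · obtain ⟨p, hp⟩ := h.mem_of_comm ha (mul_inv_eq_iff_eq_mul.1 ((h.rho_eq hρ).1 e))
    obtain ⟨a, b, c, s, l, rfl⟩ := borel_eq (h.borel_of_mem (hp ▸ n.2))
    refine ⟨s * l, l, l.ne_zero, fun v => (h.rho_eq hρ).2 ?_⟩
    rw [← hp, ← map_inv, ← map_mul, ← map_mul, borel_conj]
  · obtain ⟨a, b, ha, hb, e⟩ := nt
    exact ⟨a, b, ha, hb, fun n e1 => e n ((h.rho_eq hρ).1 e1)⟩

theorem norm_le [Finite G] (e : ∀ n, (ρ n (1, 0, 0)).2 = 0) : 𝐍[(M0 F).map ι] ≤ 𝐍[(Z0 F).map ι] := fun n hn =>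
  h.mem_norm_Z one_ne_zero ((h.rho_eq hρ (n := ⟨n, hn⟩) (w := (_, 0, 0))).1 (Prod.ext rfl (e _)))

end Rho

variable [Finite G] {p : ℕ} [Fact p.Prime] [CharP F p]

theorem le_P {R : Subgroup G} (hR : IsPGroup p R) (h1 : R ≤ 𝐍[(Z0 F).map ι]) (h2 : R ≤ 𝐍[(M0 F).map ι]) :
    R ≤ (P0 F).map ι := fun r hr => by
  obtain ⟨x, rfl⟩ := h.le_range hR h1 hr
  have h3 := h.borel_of_mem (h2 hr)
  obtain ⟨k, hk⟩ := hR ⟨_, hr⟩
  have h4 : x.g ^ p ^ k = 1 := by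
    have : x ^ p ^ k = 1 := h.inj (by rw [map_pow, map_one]; exact congrArg Subtype.val hk)
    exact (map_pow pr x _).symm.trans (by rw [this, map_one])
  have h5 := (borel_pow h3 (p ^ k)).2
  rw [h4] at h5
  have h6 : x.g 0 0 = 1 := sub_eq_zero.1 (pow_eq_zero_iff (pow_ne_zero k (Fact.out : p.Prime).ne_zero) |>.1 (by
    rw [sub_pow_char_pow, ← h5]; simp))
  have h7 := sl2_det x.g
  refine mem_map_of_mem ι (mem_P0.2 ⟨x.g 0 1, sl2_ext ?_ ?_ ?_ ?_⟩) <;> simp [h6, h3] at h7 ⊢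
  exact h7

omit [Fact p.Prime] [CharP F p] in
theorem P_le_norm : (P0 F).map ι ≤ 𝐍[(M0 F).map ι] := by
  rintro _ ⟨x, hx, rfl⟩
  obtain ⟨a, b, c, s, rfl⟩ := P0_eq hx
  rw [map_mul]
  exact mul_mem (le_normalizer (mem_map_of_mem ι (mm_mem ..))) (h.bb_norm s 1)

theorem exists_Z (Q : Sylow p G) {u : G} (u1 : u ≠ 1) (hu : u ∈ (Q : Subgroup G))
    (hc : ∀ y ∈ (Q : Subgroup G), y * u = u * y) : ∃ a ≠ 0, ∃ g : G, g * u * g⁻¹ = ι (mm a 0 0) := by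
  obtain ⟨g, -, hg⟩ := (h.syl_P (p := p)).exists_cj_eq (isSyl_top Q)
  have h3 : g * u * g⁻¹ ∈ (Z0 F).map ι := by
    rw [← h.cent_P, ← hg, centralizer_cj, ← cj_inf]
    exact conj_mem_cj g ⟨hu, hc⟩
  obtain ⟨_, ⟨a, rfl⟩, e⟩ := h3
  refine ⟨a, ?_, g, e.symm⟩
  rintro rfl
  rw [mm_zero, map_one, eq_comm, conj_eq_one_iff] at e
  exact u1 e

theorem nt_of {P Q : Sylow p G} {u v : G} (u1 : u ≠ 1) (v1 : v ≠ 1) (hu : u ∈ (P : Subgroup G))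
    (hc : ∀ y ∈ (P : Subgroup G), y * u = u * y) (hv : v ∈ (Q : Subgroup G))
    (hd : ∀ y ∈ (Q : Subgroup G), y * v = v * y) (e : ∀ g : G, g * u * g⁻¹ ≠ v) :
    ∃ a b : F, a ≠ 0 ∧ b ≠ 0 ∧ ∀ g : G, g * ι (mm a 0 0) * g⁻¹ ≠ ι (mm b 0 0) := by
  obtain ⟨a, ha, x, hx⟩ := h.exists_Z P u1 hu hc
  obtain ⟨b, hb, y, hy⟩ := h.exists_Z Q v1 hv hd
  refine ⟨a, b, ha, hb, fun g e1 => e (y⁻¹ * g * x) ?_⟩
  rw [← hx, ← hy] at e1
  calc _ = y⁻¹ * (g * (x * u * x⁻¹) * g⁻¹) * y := by group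
    _ = v := by rw [e1]; group

theorem exists_syl (P : Sylow p G) : ∃ g : G, (P0 F).map ((MulAut.conj g).toMonoidHom.comp ι) = P := by
  obtain ⟨g, -, hg⟩ := (isSyl_top P).exists_cj_eq (h.syl_P (p := p))
  exact ⟨g, by rw [← hg, ← Subgroup.map_map]⟩

end HS

/-- The complement to `M` in `P`. -/
def A0 (F : Type*) [Field F] : Subgroup (CM F) where
  carrier := {p | ∃ s, p = bb s 1}
  one_mem' := ⟨0, by apply CM.ext' <;> simp⟩
  mul_mem' := by rintro _ _ ⟨a, rfl⟩ ⟨b, rfl⟩; exact ⟨a + b, by apply CM.ext' <;> simp [add_comm]⟩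
  inv_mem' := by rintro _ ⟨a, rfl⟩; exact ⟨-a, by apply CM.ext' <;> simp⟩

theorem A0_le : A0 F ≤ P0 F := by
  rintro _ ⟨s, rfl⟩; exact mem_P0.2 ⟨0, by apply sl2_ext <;> simp⟩

theorem A0_inf : A0 F ⊓ M0 F = ⊥ := eq_bot_iff.2 (by
  rintro _ ⟨⟨s, rfl⟩, h⟩
  obtain ⟨a, b, c, h⟩ := mem_M0.1 h
  have : s = 0 := by simpa using congrArg CM.y h
  subst this
  apply CM.ext' <;> simp)

theorem A0_sup : M0 F ⊔ A0 F = P0 F := le_antisymm (sup_le M0_le_P0 A0_le) fun x hx => by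
  obtain ⟨a, b, c, s, rfl⟩ := P0_eq hx
  exact mul_mem_sup (mm_mem ..) ⟨s, rfl⟩

end Cfsg.Agent.Hay
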