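import Cfsg.Agent.Loc3.Tools
import Cfsg.Agent.Misc.Four
import Cfsg.Agent.Grp.Card
import Cfsg.Agent.Transfer.ThompsonExtremal

/-! Transfer from a Sylow subgroup `E₄ ≀ Z₂`. -/

set_option autoImplicit false

namespace Cfsg.Agent.Hay

open Cfsg Subgroup Cfsg.Agent.PLocal.Amb Cfsg.Agent.Loc3

theorem wr_transfer {P K : Type*} [Group P] [Group K] [Finite K] (Θ : P × P →* K) (inj : Function.Injective Θ)
    {V : Subgroup P} (hV : IsSyl 2 V ⊤) (h4 : Nat.card V = 4) (sq : ∀ v ∈ V, v * v = 1) {w : K} (w2 : w * w = 1)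
    (hw : ∀ x y, w * Θ (x, y) * w⁻¹ = Θ (y, x))
    (hN : ∀ n ∈ 𝐍[(V.prod V).map Θ], n ∈ Θ.range ∨ w * n ∈ Θ.range) :
    ∃ M : Subgroup K, M.Normal ∧ M.index = 2 ∧ w ∉ M := by
  have : Finite P := Finite.of_injective (fun x => Θ (x, 1)) fun _ _ e => congrArg Prod.fst (inj e)
  obtain ⟨B, hB⟩ : ∃ B, B = (V.prod V).map Θ := ⟨_, rfl⟩
  have mB : ∀ {b}, b ∈ B ↔ ∃ x ∈ V, ∃ y ∈ V, Θ (x, y) = b := hB ▸
    ⟨fun ⟨⟨x, y⟩, h, e⟩ => ⟨x, h.1, y, h.2, e⟩, fun ⟨x, hx, y, hy, e⟩ => ⟨(x, y), ⟨hx, hy⟩, e⟩⟩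
  have mB' : ∀ {x y}, Θ (x, y) ∈ B → x ∈ V ∧ y ∈ V := fun h => by
    obtain ⟨x, hx, y, hy, e⟩ := mB.1 h
    obtain ⟨rfl, rfl⟩ := Prod.mk.inj (inj e); exact ⟨hx, hy⟩
  have cB : Nat.card B = 16 := by
    rw [hB, card_map_of_injective inj, Nat.card_congr (prodEquiv V V).toEquiv, Nat.card_prod, h4]
  rw [← hB] at hN
  obtain ⟨⟨v, hv⟩, v1⟩ := ne_bot_iff_exists_ne_one.1 (show V ≠ ⊥ from fun e => by simp [e] at h4)
  replace v1 : v ≠ 1 := fun e => v1 (Subtype.ext e)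
  have Bsq : ∀ b ∈ B, b * b = 1 := fun b hb => by
    obtain ⟨x, hx, y, hy, rfl⟩ := mB.1 hb
    rw [← map_mul, Prod.mk_mul_mk, sq x hx, sq y hy]; exact Θ.map_one
  have Bc : ∀ a ∈ B, ∀ b ∈ B, Commute a b := fun a ha b hb => by
    have k : ∀ v ∈ B, v⁻¹ = v := fun v hv => inv_eq_of_mul_eq_one_right (Bsq v hv)
    change _ = _
    rw [← k _ (mul_mem ha hb), mul_inv_rev, k a ha, k b hb]
  have nc : ¬ Commute w (Θ (v, 1)) := fun e => v1 (congrArg Prod.fst (inj ((conj_of_comm e).symm.trans (hw ..))))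
  have vB : Θ (v, 1) ∈ B := mB.2 ⟨v, hv, 1, one_mem _, rfl⟩
  have wB : w ∉ B := fun e => nc (Bc _ e _ vB)
  have nB : ∀ b ∈ B, w * b * w⁻¹ ∈ B := fun b hb => by
    obtain ⟨x, hx, y, hy, rfl⟩ := mB.1 hb
    exact mB.2 ⟨y, hy, x, hx, (hw ..).symm⟩
  have nB' : w ∈ 𝐍[B] := mem_normalizer_of_cj_le (cj_le_iff_forall.2 nB)
  obtain ⟨S, hS⟩ : ∃ S, S = B ⊔ zpowers w := ⟨_, rfl⟩
  have mS : ∀ {s}, s ∈ S → s ∈ B ∨ ∃ b ∈ B, s = b * w := fun hs =>
    ((Misc.mem_sup_zpowers_two w2 nB).1 (hS ▸ hs)).imp_right fun e => ⟨_, e, by rw [mul_assoc, w2, mul_one]⟩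
  have BS : B ≤ S := hS ▸ le_sup_left
  have wS : w ∈ S := hS ▸ mem_sup_right (mem_zpowers w)
  have cS : Nat.card S = 32 := by rw [hS, Misc.card_sup_zpowers_two w2 wB nB', cB]
  have S2 : IsPGroup 2 S := IsPGroup.of_card (n := 5) cS
  have iB : B.relIndex S = 2 := by
    have := Grp.card_inf_mul_relIndex' B S
    rw [inf_of_le_left BS, cB, cS] at this; omega
  have mF : ∀ b ∈ B, Commute b w → ∃ x ∈ V, Θ (x, x) = b := fun b hb e => by
    obtain ⟨x, hx, y, hy, rfl⟩ := mB.1 hb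
    obtain rfl : x = y := congrArg Prod.fst (inj ((conj_of_comm e.symm).symm.trans (hw ..)))
    exact ⟨x, hx, rfl⟩
  have cF : Nat.card ↥(B ⊓ centralizer {w}) ≤ 4 := by
    refine (card_le_of_le (show B ⊓ centralizer {w} ≤ V.map (Θ.comp ((MonoidHom.id P).prod (MonoidHom.id P))) from fun b hb =>
      mF b hb.1 (mem_cent.1 hb.2))).trans (h4 ▸ Nat.le_of_dvd Nat.card_pos (card_map_dvd ..))
  have k1 : ∀ s ∈ S, s ∉ B → ∀ y ∈ B, Commute y s → Commute y w := fun s hs hs' y hy e => by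
    obtain ⟨b, hb, rfl⟩ := (mS hs).resolve_left hs'
    simpa using (Bc y hy b hb).inv_right.mul_right e
  have SF : S ≤ 𝐂[B ⊓ centralizer {w}] := fun s hs f hf => by
    rcases mS hs with e | ⟨b, hb, rfl⟩
    exacts [Bc f hf.1 s e, (Bc f hf.1 b hb).mul_right (mem_cent.1 hf.2)]
  have uniq : ∀ g, cj(g, B) ≤ S → g ∈ 𝐍[B] := fun g hg => mem_normalizer_of_cj_le fun s hs => by_contra fun hs' => by
    have h1 := Grp.card_inf_mul_relIndex' B cj(g, B)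
    have h2 : B.relIndex cj(g, B) ≤ 2 := iB ▸ relIndex_le_of_le_right hg (by omega)
    have h3 : Nat.card ↥(B ⊓ cj(g, B)) ≤ 4 := le_trans (card_le_of_le (le_inf inf_le_left fun y hy => mem_cent.2
      (k1 s (hg hs) hs' y hy.1 (by simpa [mul_assoc] using Commute.cj (Bc _ (mem_cj.1 hy.2) _ (mem_cj.1 hs)) g)))) cF
    rw [card_cj, cB] at h1
    have := Nat.mul_le_mul h3 h2
    omega
  have hS : IsSyl 2 S ⊤ := isSyl_of_isSyl_normalizer ⟨le_inf le_top le_normalizer, S2, fun R hR h1 h2 r hr => by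
    have k : ∀ r ∈ R, r ∈ Θ.range → r ∈ S := by
      rintro _ hr ⟨⟨a, b⟩, rfl⟩
      have n := uniq _ (cj_le_of_mem_normalizer BS (h2 hr).2)
      obtain ⟨k, hk⟩ := isPGroup_iff.1 hR _ hr
      rw [← map_pow, ← Θ.map_one] at hk
      have k2 : ∀ c : P, c ^ 2 ^ k = 1 → (∀ x ∈ V, c * x * c⁻¹ ∈ V) → c ∈ V := fun c h1 h2 =>
        hV.le_of_normalizes (isPGroup_zpowers ⟨k, h1⟩) le_top (zpowers_le.2 (mem_normalizer_of_cj_le
          (cj_le_iff_forall.2 h2))) (mem_zpowers c)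
      have k3 : ∀ x ∈ V, a * x * a⁻¹ ∈ V ∧ b * x * b⁻¹ ∈ V := fun x hx => mB' (by
        have := conj_mem_of_mem_normalizer n (mB.2 ⟨x, hx, x, hx, rfl⟩)
        rwa [← map_inv, ← map_mul, ← map_mul] at this)
      exact BS (mB.2 ⟨a, k2 a (congrArg Prod.fst (inj hk)) fun x hx => (k3 x hx).1,
        b, k2 b (congrArg Prod.snd (inj hk)) fun x hx => (k3 x hx).2, rfl⟩)
    rcases hN r (uniq r (cj_le_of_mem_normalizer BS (h2 hr).2)) with e | e
    · exact k r hr e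
    · exact (mul_mem_cancel_left wS).1 (k _ (mul_mem (h1 wS) hr) e)⟩
  refine (Transfer.thompson_transfer_extremal (T := S ⊓ centralizer {w}) (by
    have := hS.not_dvd_relIndex
    rwa [relIndex_top_right, ← even_iff_two_dvd, Nat.not_even_iff_odd] at this) BS iB (by rw [pow_two, w2])
    (S2.to_le inf_le_left) fun t ht => mem_cent.1 ht.2).resolve_right fun ⟨g, h1, h2⟩ => ?_
  have cw : ∀ b ∈ B, b * w * b⁻¹ * w⁻¹ ∈ B ⊓ centralizer {w} := fun b hb => by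
    have k : b * w * b⁻¹ * w⁻¹ = b * (w * b * w⁻¹) := by rw [inv_eq_of_mul_eq_one_right (Bsq b hb)]; group
    refine k ▸ ⟨mul_mem hb (nB b hb), mem_cent.2 (comm_of_conj ?_).symm⟩
    calc _ = w * b * w⁻¹ * (w * w * b * (w * w)⁻¹) := by group
      _ = _ := by rw [w2, one_mul, inv_one, mul_one, (Bc _ (nB b hb) b hb).eq]
  by_cases h3 : cj(g, S ⊓ centralizer {w}) ≤ B
  · have n : S ≤ 𝐍[S ⊓ centralizer {w}] := fun s hs => mem_normalizer_of_cj_le (cj_le_iff_forall.2 fun y hy => by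
      refine ⟨S.mul_mem (S.mul_mem hs hy.1) (S.inv_mem hs), mem_cent.2 ?_⟩
      have k : Commute (s * w * s⁻¹) w := by
        rw [← inv_mul_cancel_right (s * w * s⁻¹) w]
        refine Commute.mul_left (mem_cent.1 ?_) (Commute.refl w)
        rcases mS hs with e | ⟨b, hb, rfl⟩
        · exact (cw s e).2
        · simpa [mul_assoc] using (cw b hb).2
      rcases mS hy.1 with e | ⟨b, hb, rfl⟩
      · rw [conj_of_comm (Eq.symm (SF hs y ⟨e, hy.2⟩))]; exact mem_cent.1 hy.2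
      · have e : Commute b w := by simpa using (mem_cent.1 hy.2).mul_left (Commute.refl w).inv_left
        rw [← conj_mul, conj_of_comm (Eq.symm (SF hs b ⟨hb, mem_cent.2 e⟩))]
        exact e.mul_left k)
    obtain ⟨c, -, hc⟩ := ((hS.mono n le_top).inf_of_le (centralizer_le_normalizer' _)
      (normalizer_le_normalizer_centralizer _)).exists_cj_le (isPGroup_cj g⁻¹ (S2.to_le BS)) (by
        rw [cj_le_iff, inv_inv, ← centralizer_cj]; exact fun b hb y hy => Bc y (h3 hy) b hb)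
    rw [← cj_mul] at hc
    rw [cj_of_mem_normalizer (uniq _ (hc.trans inf_le_left))] at hc
    exact nc ((hc vB).2 w ⟨wS, mem_cent.2 (Commute.refl w)⟩)
  obtain ⟨s, hs, hs'⟩ := SetLike.not_le_iff_exists.1 h3
  have Tc : ∀ y ∈ S ⊓ centralizer {w}, g * y * g⁻¹ ∈ B → (∀ t ∈ S ⊓ centralizer {w}, Commute y t) →
      g * y * g⁻¹ ∈ B ⊓ centralizer {w} := fun y _ h4 h5 => ⟨h4, mem_cent.2 (k1 s (h2 hs) hs' _ h4 (by
        simpa [mul_assoc] using Commute.cj (h5 _ (mem_cj.1 hs)) g))⟩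
  have w' := Tc w ⟨wS, mem_cent.2 (Commute.refl w)⟩ h1 fun t ht => (mem_cent.1 ht.2).symm
  have dF : ∀ x ∈ V, Θ (x, x) ∈ B ⊓ centralizer {w} := fun x hx =>
    ⟨mB.2 ⟨x, hx, x, hx, rfl⟩, mem_cent.2 (comm_of_conj (hw x x)).symm⟩
  obtain ⟨x, hx, x1, hf⟩ : ∃ x ∈ V, x ≠ 1 ∧ g * Θ (x, x) * g⁻¹ ∈ B := by
    by_contra! e
    have : V ≤ zpowers v := fun x hx => (mem_zpowers_two (sq v hv)).2 (by_contra fun e1 => by
      have k := fun x hx => cj_le_iff_forall.1 h2 _ (inf_le_inf_right _ BS (dF x hx))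
      have := (mul_mem_iff_of_index_two (H := B.subgroupOf S) iB (a := ⟨_, k x hx⟩) (b := ⟨_, k v hv⟩)).2
        (iff_of_false (e x hx (not_or.1 e1).1) (e v hv v1))
      refine e (x * v) (mul_mem hx hv) (fun e2 => (not_or.1 e1).2 ?_) (by
        rwa [← Prod.mk_mul_mk, map_mul, ← conj_mul])
      rw [eq_inv_of_mul_eq_one_left e2, inv_eq_of_mul_eq_one_right (sq v hv)])
    have := card_le_of_le this
    rw [h4, Nat.card_zpowers] at this
    exact absurd (this.trans (orderOf_le_of_pow_eq_one two_pos (by rw [pow_two, sq v hv]))) (by norm_num)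
  have f' := Tc _ (inf_le_inf_right _ BS (dF x hx)) hf fun t ht => SF ht.1 _ (dF x hx)
  have f1 : g * Θ (x, x) * g⁻¹ ≠ 1 := fun e => x1 (congrArg Prod.fst (inj ((conj_eq_one_iff.1 e).trans Θ.map_one.symm)))
  have eF : closure {g * Θ (x, x) * g⁻¹, g * w * g⁻¹} = B ⊓ centralizer {w} := eq_of_le_of_card_ge
    ((closure_le _).2 (by rintro _ (rfl | rfl) <;> assumption)) (by
      rw [Misc.card_closure_pair (Bsq _ hf) (Bsq _ h1) (Bc _ hf _ h1) f1 (fun e => wB (conj_eq_one_iff.1 e ▸ one_mem _))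
        fun e => wB (mul_left_cancel (mul_right_cancel e) ▸ (dF x hx).1)]; exact cF)
  have xB : Θ (x, 1) ∈ B := mB.2 ⟨x, hx, 1, one_mem _, rfl⟩
  have e1 : Θ (x, 1) * w * (Θ (x, 1))⁻¹ = Θ (x, x) * w := by
    rw [inv_eq_of_mul_eq_one_right (Bsq _ xB), mul_assoc, ← inv_mul_cancel_right (w * _) w, hw, ← mul_assoc,
      ← map_mul]
    simp
  have nF : g * Θ (x, 1) * g⁻¹ ∈ 𝐍[B ⊓ centralizer {w}] := mem_normalizer_of_cj_le (by
    conv_lhs => rw [← eF]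
    refine map_le_iff_le_comap.2 ((closure_le _).2 ?_)
    rintro _ (rfl | rfl)
    · change _ * _ * _ ∈ B ⊓ _
      rwa [conj_of_comm (Commute.cj (Bc _ xB _ (dF x hx).1) g)]
    · change _ * _ * _ ∈ B ⊓ _
      rw [conj_inv, conj_mul, conj_mul, e1, ← conj_mul]
      exact mul_mem f' w')
  obtain ⟨c, hc, h4⟩ := (hS.mono (SF.trans (centralizer_le_normalizer' _)) le_top).exists_cj_le
    (R := zpowers (g * Θ (x, 1) * g⁻¹)) (isPGroup_zpowers ⟨1, by rw [conj_pow, pow_one, pow_two, Bsq _ xB]; simp⟩)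
    (zpowers_le.2 nF)
  have h5 := inv_conj_mem_of_mem_normalizer (normalizer_le_normalizer_centralizer _ hc)
    (SF (cj_le_iff_forall.1 h4 _ (mem_zpowers _)))
  have h6 := conj_of_comm (Eq.symm (h5 _ w'))
  rw [show c⁻¹ * (c * (g * Θ (x, 1) * g⁻¹) * c⁻¹) * c = g * Θ (x, 1) * g⁻¹ by group, conj_inv, conj_mul, conj_mul, e1,
    ← conj_mul, mul_eq_right] at h6
  exact f1 h6

end Cfsg.Agent.Hay
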