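import Cfsg.Agent.Hay.Model

/-! A group of additive automorphisms of the space of symmetric `2 × 2` matrices containing the stabilizer of a
vector of `GL₂(q)` as stabilizer of the rank one matrices `a e eᵀ` is the image of `GL₂(q)`. -/

set_option autoImplicit false

namespace Cfsg.Agent.Hay

variable {F : Type*} [Field F]

/-- The action `S ↦ g S gᵀ` on symmetric matrices. -/
def sy (p q r s : F) (v : F × F × F) : F × F × F :=
  (p ^ 2 * v.1 + 2 * p * q * v.2.1 + q ^ 2 * v.2.2, p * r * v.1 + (p * s + q * r) * v.2.1 + q * s * v.2.2,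
    r ^ 2 * v.1 + 2 * r * s * v.2.1 + s ^ 2 * v.2.2)

theorem sy_sy (p q r s p' q' r' s' : F) (v : F × F × F) : sy p q r s (sy p' q' r' s' v) =
    sy (p * p' + q * r') (p * q' + q * s') (r * p' + s * r') (r * q' + s * s') v := by
  simp only [sy, Prod.mk.injEq]; refine ⟨?_, ?_, ?_⟩ <;> ring

theorem sy_one (v : F × F × F) : sy 1 0 0 1 v = v := by simp [sy]

theorem sy_Z (s l a : F) : sy 1 s 0 l (a, 0, 0) = (a, 0, 0) := by simp [sy]

/-- The hypotheses. -/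
structure CH {N : Type*} [Group N] (ρ : N →* Equiv.Perm (F × F × F)) : Prop where
  add : ∀ n v w, ρ n (v + w) = ρ n v + ρ n w
  ex : ∀ s l : F, l ≠ 0 → ∃ n, ∀ v, ρ n v = sy 1 s 0 l v
  stab : ∀ n a, a ≠ 0 → ρ n (a, 0, 0) = (a, 0, 0) → ∃ s l : F, l ≠ 0 ∧ ∀ v, ρ n v = sy 1 s 0 l v
  nt : ∃ a b : F, a ≠ 0 ∧ b ≠ 0 ∧ ∀ n, ρ n (a, 0, 0) ≠ (b, 0, 0)
  nsq : ¬ IsSquare (-1 : F)
  sq : ∀ a : F, IsSquare a ∨ IsSquare (-a)

namespace CH

variable {N : Type*} [Group N] {ρ : N →* Equiv.Perm (F × F × F)} (h : CH ρ)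

theorem ap (n m : N) (v : F × F × F) : ρ (n * m) v = ρ n (ρ m v) := by rw [map_mul]; rfl
theorem inv_ap (n : N) (v : F × F × F) : ρ n⁻¹ (ρ n v) = v := by rw [← ap, inv_mul_cancel, map_one]; rfl
theorem ap_inv (n : N) (v : F × F × F) : ρ n (ρ n⁻¹ v) = v := by rw [← ap, mul_inv_cancel, map_one]; rfl

include h

theorem two : (2 : F) ≠ 0 := fun e => h.nsq ⟨1, by linear_combination -e⟩

theorem zero (n : N) : ρ n 0 = 0 := by
  have := h.add n 0 0
  rwa [add_zero, left_eq_add] at this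

theorem neg (n : N) (v : F × F × F) : ρ n (-v) = -ρ n v :=
  eq_neg_of_add_eq_zero_left (by rw [← h.add, neg_add_cancel, h.zero])

theorem same {n k : N} {a : F} (ha : a ≠ 0) (e : ρ k (ρ n (a, 0, 0)) = ρ n (a, 0, 0)) (b : F) :
    ρ k (ρ n (b, 0, 0)) = ρ n (b, 0, 0) := by
  obtain ⟨s, l, -, hs⟩ := h.stab (n⁻¹ * k * n) a ha (by rw [ap, ap, e, inv_ap])
  have := congrArg (ρ n) (hs (b, 0, 0))
  rwa [ap, ap, ap_inv, sy_Z] at this

theorem ti {n : N} {a : F} (ha : a ≠ 0) (e : (ρ n (a, 0, 0)).2 = 0) (b : F) : (ρ n (b, 0, 0)).2 = 0 := by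
  obtain ⟨k, hk⟩ := h.ex 1 1 one_ne_zero
  have := h.same ha (k := k) (n := n) (by rw [hk, ← Prod.mk.eta (p := ρ n _), e]; exact sy_Z ..) b
  rw [hk] at this
  generalize ρ n (b, 0, 0) = v at this
  obtain ⟨x, y, z⟩ := v
  simp only [sy, Prod.mk.injEq] at this
  obtain ⟨h1, h2, -⟩ := this
  have h3 : z = 0 := by linear_combination h2
  have h4 : 2 * y = 0 := by linear_combination h1 - h3
  simp [h3, (mul_eq_zero.1 h4).resolve_left h.two]

theorem third {n : N} {a : F} (ha : a ≠ 0) (e : (ρ n (a, 0, 0)).2.2 = 0) : (ρ n (a, 0, 0)).2.1 = 0 := by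
  by_contra h0
  have k1 : ∀ b ≠ 0, (ρ n (b, 0, 0)).2.2 = 0 ∧ (ρ n (b, 0, 0)).2.1 ≠ 0 := fun b hb => by
    have k2 : (ρ n (b, 0, 0)).2.2 = 0 := by
      by_contra h1
      obtain ⟨k, hk⟩ := h.ex (-2 * (ρ n (b, 0, 0)).2.1 / (ρ n (b, 0, 0)).2.2) (-1) (neg_ne_zero.2 one_ne_zero)
      have := h.same hb (k := k) (n := n) (by
        rw [hk]
        generalize ρ n (b, 0, 0) = v at h1
        obtain ⟨x, y, z⟩ := v
        simp only [sy, Prod.mk.injEq] at h1 ⊢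
        refine ⟨?_, ?_, ?_⟩ <;> field_simp <;> ring) a
      rw [hk] at this
      have := congrArg (·.2.1) this
      simp only [sy, e] at this
      exact h0 ((mul_eq_zero.1 (show (2 : F) * _ = 0 by linear_combination -this)).resolve_left h.two)
    exact ⟨k2, fun h1 => h0 (congrArg Prod.fst (h.ti hb (Prod.ext h1 k2) a))⟩
  obtain ⟨a, b, ha, hb, hab⟩ := h.nt
  obtain ⟨a1, a2⟩ := k1 a ha
  obtain ⟨b1, b2⟩ := k1 b hb
  obtain ⟨k, hk⟩ := h.ex (((ρ n (b, 0, 0)).1 - (ρ n (a, 0, 0)).1) / (2 * (ρ n (a, 0, 0)).2.1))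
    ((ρ n (b, 0, 0)).2.1 / (ρ n (a, 0, 0)).2.1) (div_ne_zero b2 a2)
  refine hab (n⁻¹ * k * n) ?_
  have h2 := h.two
  rw [ap, ap, hk]
  refine (congrArg (ρ n⁻¹) ?_).trans (inv_ap n _)
  generalize ρ n (a, 0, 0) = v at a1 a2
  generalize ρ n (b, 0, 0) = w at b1 b2
  obtain ⟨x, y, z⟩ := v
  obtain ⟨x', y', z'⟩ := w
  simp only [sy, Prod.mk.injEq] at a1 a2 b1 b2 ⊢
  subst a1 b1
  refine ⟨?_, ?_, ?_⟩ <;> field_simp <;> ring

omit h in
/-- The conjugate of `Z` under `n` is another one inside the diagonal matrices. -/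
def Good (ρ : N →* Equiv.Perm (F × F × F)) (n : N) : Prop :=
  (∀ a, (ρ n (a, 0, 0)).2.1 = 0) ∧ ∀ a ≠ 0, (ρ n (a, 0, 0)).2.2 ≠ 0

theorem good_of {n : N} {a : F} (ha : a ≠ 0) (e : (ρ n (a, 0, 0)).2.1 = 0) (e' : (ρ n (a, 0, 0)).2.2 ≠ 0) :
    Good ρ n := by
  obtain ⟨k, hk⟩ := h.ex 0 (-1) (neg_ne_zero.2 one_ne_zero)
  have k1 : ∀ b, (ρ n (b, 0, 0)).2.1 = 0 := fun b => by
    have := h.same ha (k := k) (n := n) (by rw [hk]; simp [sy, e, Prod.ext_iff]) b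
    rw [hk] at this
    have := congrArg (·.2.1) this
    simp only [sy] at this
    exact (mul_eq_zero.1 (show (2 : F) * _ = 0 by linear_combination -this)).resolve_left h.two
  exact ⟨k1, fun b hb e2 => e' (congrArg Prod.snd (h.ti hb (Prod.ext (k1 b) e2) a))⟩

theorem exists_good {n : N} {a : F} (ha : a ≠ 0) (e : (ρ n (a, 0, 0)).2 ≠ 0) :
    ∃ k, (∀ v, ρ k v = sy 1 (-(ρ n (a, 0, 0)).2.1 / (ρ n (a, 0, 0)).2.2) 0 1 v) ∧ Good ρ (k * n) := by
  have h1 : (ρ n (a, 0, 0)).2.2 ≠ 0 := fun e1 => e (Prod.ext (h.third ha e1) e1)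
  obtain ⟨k, hk⟩ := h.ex (-(ρ n (a, 0, 0)).2.1 / (ρ n (a, 0, 0)).2.2) 1 one_ne_zero
  refine ⟨k, hk, h.good_of ha ?_ ?_⟩ <;> rw [ap, hk] <;> simp [sy, h1]

theorem exists_comm {n : N} (g : Good ρ n) : ∃ m, (∀ a, ρ m (a, 0, 0) = ρ n (a, 0, 0)) ∧
    ∀ v, ρ m (sy 1 0 0 (-1) v) = sy 1 0 0 (-1) (ρ m v) := by
  have h2 := h.two
  obtain ⟨t, ht⟩ := h.ex 0 (-1) (neg_ne_zero.2 one_ne_zero)
  obtain ⟨s, l, -, hs⟩ := h.stab (n⁻¹ * t * n) 1 one_ne_zero (by
    rw [ap, ap, ht, show sy 1 0 0 (-1) (ρ n (1, 0, 0)) = ρ n (1, 0, 0) by simp [sy, g.1, Prod.ext_iff], inv_ap])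
  have h3 : ∀ v, sy 1 s 0 l (sy 1 s 0 l v) = v := fun v => by
    rw [← hs, ← hs, ap, ap, ap, ap, ap_inv, ht, ht, sy_sy]
    simp [sy_one, inv_ap]
  have h4 := h3 (0, 1, 0)
  simp only [sy, Prod.mk.injEq] at h4
  obtain rfl | rfl := sq_eq_one_iff.1 (show l ^ 2 = 1 by linear_combination h4.2.1)
  · exfalso
    have h5 : s = 0 := (mul_eq_zero.1 (show (2 * 2) * s = 0 by linear_combination h4.1)).resolve_left
      (mul_ne_zero h2 h2)
    have h6 := congrArg (ρ n) (hs (ρ n⁻¹ (0, 1, 0)))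
    rw [h5, sy_one, ap, ap, ap_inv, ap_inv, ht] at h6
    simp only [sy, Prod.mk.injEq] at h6
    exact h2 (by linear_combination -h6.2.1)
  · obtain ⟨k, hk⟩ := h.ex (-s / 2) 1 one_ne_zero
    refine ⟨n * k, fun a => by rw [ap, hk, sy_Z], fun v => ?_⟩
    rw [← ht (ρ _ v), ap, ap, ← ap_inv n (ρ t _), ← ap n⁻¹, ← ap (n⁻¹ * t), hs, hk, hk, sy_sy, sy_sy]
    congr 2 <;> field_simp <;> ring

theorem comm_R {m : N} (e : ∀ v, ρ m (sy 1 0 0 (-1) v) = sy 1 0 0 (-1) (ρ m v)) (b : F) :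
    ρ m (0, b, 0) = (0, (ρ m (0, b, 0)).2.1, 0) := by
  have h1 := e (0, b, 0)
  rw [show sy 1 0 0 (-1) ((0 : F), b, (0 : F)) = -(0, b, 0) by simp [sy], h.neg] at h1
  simp only [sy, Prod.ext_iff, Prod.fst_neg, Prod.snd_neg] at h1 ⊢
  exact ⟨(mul_eq_zero.1 (show (2 : F) * _ = 0 by linear_combination -h1.1)).resolve_left h.two, trivial,
    (mul_eq_zero.1 (show (2 : F) * _ = 0 by linear_combination -h1.2.2)).resolve_left h.two⟩

variable [Finite F]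

theorem surj_R {m : N} (e : ∀ v, ρ m (sy 1 0 0 (-1) v) = sy 1 0 0 (-1) (ρ m v)) :
    Function.Surjective fun b : F => (ρ m (0, b, 0)).2.1 :=
  Finite.surjective_of_injective fun b c hb => by
    have := (ρ m).injective ((h.comm_R e b).trans ((congrArg (fun y => ((0 : F), y, (0 : F))) hb).trans
      (h.comm_R e c).symm))
    simpa using this

theorem Good.surj {n : N} (g : Good ρ n) : Function.Surjective fun a : F => (ρ n (a, 0, 0)).2.2 :=
  Finite.surjective_of_injective fun a b e => by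
    by_contra h1
    refine g.2 _ (sub_ne_zero.2 h1) ?_
    have := h.add n (a - b, 0, 0) (b, 0, 0)
    simp only [Prod.mk_add_mk, sub_add_cancel, add_zero] at this
    have := congrArg (·.2.2) this
    simp only [Prod.snd_add] at this e
    linear_combination e - this

theorem uniq {n m : N} (g : Good ρ n) (g' : Good ρ m) {a b : F} (e : (ρ n (a, 0, 0)).2.2 = (ρ m (b, 0, 0)).2.2) :
    ρ n (a, 0, 0) = ρ m (b, 0, 0) := by
  by_cases hb : b = 0
  · subst hb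
    have : a = 0 := by_contra fun ha => g.2 a ha (by rw [e]; exact congrArg (·.2.2) (h.zero m))
    subst this
    exact (h.zero n).trans (h.zero m).symm
  have key : ∀ {n m : N}, Good ρ n → Good ρ m → ∀ {a b : F}, b ≠ 0 → (ρ n (a, 0, 0)).2.2 = (ρ m (b, 0, 0)).2.2 →
      IsSquare ((ρ m (b, 0, 0)).2.2 * ((ρ n (a, 0, 0)).1 - (ρ m (b, 0, 0)).1)) →
      (ρ n (a, 0, 0)).1 = (ρ m (b, 0, 0)).1 := by
    rintro n m g g' a b hb e ⟨y, hy⟩
    have hc := g'.2 b hb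
    obtain ⟨n', h1, h2⟩ := h.exists_comm g
    obtain ⟨k, hk⟩ := h.ex (y / (ρ m (b, 0, 0)).2.2) 1 one_ne_zero
    obtain ⟨c, hc'⟩ := h.surj_R h2 y
    have h3 : ρ (n'⁻¹ * k * m) (b, 0, 0) = (a, c, 0) := by
      rw [ap, ap, hk, ← inv_ap n' (a, c, 0), show ((a, c, 0) : F × F × F) = (a, 0, 0) + (0, c, 0) by simp, h.add,
        h.comm_R h2, h1]
      congr 1
      simp only [sy, Prod.ext_iff, Prod.fst_add, Prod.snd_add, g.1, g'.1, e] at hc' ⊢
      refine ⟨?_, ?_, ?_⟩ <;> field_simp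
      · linear_combination -hy
      · linear_combination -(ρ m (b, 0, 0)).2.2 * hc'
      · ring
    have h4 := h.third hb (n := n'⁻¹ * k * m) (by rw [h3])
    rw [h3] at h4
    simp only at h4 hc'
    subst h4
    rw [← hc', show (((0 : F), (0 : F), (0 : F)) : F × F × F) = 0 from rfl, h.zero] at hy
    exact sub_eq_zero.1 ((mul_eq_zero.1 (by simpa using hy)).resolve_left hc)
  have ha : a ≠ 0 := by
    rintro rfl
    exact g'.2 b hb (by rw [← e]; exact congrArg (·.2.2) (h.zero n))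
  refine Prod.ext ?_ (Prod.ext ((g.1 a).trans (g'.1 b).symm) e)
  rcases h.sq ((ρ m (b, 0, 0)).2.2 * ((ρ n (a, 0, 0)).1 - (ρ m (b, 0, 0)).1)) with h1 | h1
  · exact key g g' hb e h1
  · exact (key g' g ha e.symm (by rwa [e, ← neg_sub, mul_neg])).symm

/-- The shear that normalizes the second point. -/
theorem exists_shear {n : N} (g : Good ρ n) : ∃ φ : F →+ F, (∀ l c, l ≠ 0 → φ (l ^ 2 * c) = φ c) ∧
    ∀ a, (ρ n (a, 0, 0)).1 = φ (ρ n (a, 0, 0)).2.2 := by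
  choose ψ hψ using g.surj h
  have k : ∀ a, (ρ n (a, 0, 0)).1 = (ρ n (ψ (ρ n (a, 0, 0)).2.2, 0, 0)).1 := fun a =>
    congrArg Prod.fst (h.uniq g g (hψ _).symm)
  refine ⟨AddMonoidHom.mk' (fun c => (ρ n (ψ c, 0, 0)).1) fun c d => ?_, fun l c hl => ?_, k⟩
  · have h1 := h.add n (ψ c, 0, 0) (ψ d, 0, 0)
    simp only [Prod.mk_add_mk, add_zero] at h1
    have h2 := k (ψ c + ψ d)
    simp only [h1, Prod.fst_add, Prod.snd_add] at h2 hψ
    rw [h2, hψ, hψ]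
  · obtain ⟨t, ht⟩ := h.ex 0 l hl
    have g' : Good ρ (t * n) := ⟨fun a => by rw [ap, ht]; simp [sy, g.1], fun a ha => by
      rw [ap, ht]; simp [sy, hl, g.2 a ha]⟩
    have := h.uniq g g' (a := ψ (l ^ 2 * c)) (b := ψ c) (by
      rw [ap, ht]; simp only [sy] at hψ ⊢; rw [hψ, hψ]; ring)
    change (ρ n _).1 = (ρ n _).1
    rw [this, ap, ht]; simp [sy]

omit h [Finite F] in
/-- `sy p q r s` is induced by `N`. -/
def Real (ρ : N →* Equiv.Perm (F × F × F)) (p q r s : F) : Prop := ∃ m, ∀ v, ρ m v = sy p q r s v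

omit h [Finite F] in
theorem Real.mul {p q r s p' q' r' s' a b c d : F} (h1 : Real ρ p q r s) (h2 : Real ρ p' q' r' s')
    (e1 : a = p * p' + q * r') (e2 : b = p * q' + q * s') (e3 : c = r * p' + s * r') (e4 : d = r * q' + s * s') :
    Real ρ a b c d := by
  obtain ⟨m, hm⟩ := h1
  obtain ⟨k, hk⟩ := h2
  exact ⟨m * k, fun v => by rw [ap, hk, hm, sy_sy, e1, e2, e3, e4]⟩

section Norm
variable {n : N} (g : Good ρ n) (g0 : ∀ a, (ρ n (a, 0, 0)).1 = 0)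
include g g0

theorem conic (m : N) (a : F) : (ρ m (a, 0, 0)).1 * (ρ m (a, 0, 0)).2.2 = (ρ m (a, 0, 0)).2.1 ^ 2 := by
  by_cases ha : a = 0
  · subst ha; rw [show (((0 : F), (0 : F), (0 : F)) : F × F × F) = 0 from rfl, h.zero]; simp
  by_cases hz : (ρ m (a, 0, 0)).2.2 = 0
  · rw [h.third ha hz, hz]; simp
  obtain ⟨k, hk, g'⟩ := h.exists_good ha fun e => hz (congrArg Prod.snd e)
  obtain ⟨b, hb⟩ := g.surj h (ρ (k * m) (a, 0, 0)).2.2
  have := congrArg Prod.fst (h.uniq g g' hb)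
  rw [g0, ap, hk] at this
  simp only [sy] at this
  field_simp at this
  linear_combination -this

theorem form : ∃ (m : N) (σ : F →+* F) (η γ : F), η ≠ 0 ∧ γ ≠ 0 ∧
    ∀ a b c, ρ m (a, b, c) = (η * σ c, γ * σ b, γ ^ 2 / η * σ a) := by
  obtain ⟨m, h1, h2⟩ := h.exists_comm g
  have hs := g.surj h
  have g' : Good ρ m := ⟨fun a => h1 a ▸ g.1 a, fun a ha => h1 a ▸ g.2 a ha⟩
  have e1 : ∀ a, ρ m (a, 0, 0) = (0, 0, (ρ m (a, 0, 0)).2.2) := fun a =>
    Prod.ext (h1 a ▸ g0 a) (Prod.ext (g'.1 a) rfl)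
  have e2 := h.comm_R h2
  have pt : ∀ c, ∃ a, ρ m (a, 0, 0) = (0, 0, c) := fun c => by
    obtain ⟨a, ha⟩ := g'.surj h c
    exact ⟨a, by rw [e1]; exact congrArg (fun z => ((0 : F), (0 : F), z)) ha⟩
  have e3 : ∀ c, ρ m (0, 0, c) = ((ρ m (0, 0, c)).1, 0, 0) ∧ (c ≠ 0 → (ρ m (0, 0, c)).1 ≠ 0) := fun c => by
    have k1 : (ρ m (0, 0, c)).2.1 = 0 := by
      have := congrArg (·.2.1) (h2 (0, 0, c))
      simp only [sy] at this
      exact (mul_eq_zero.1 (show (2 : F) * _ = 0 by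
        simp at this; linear_combination this)).resolve_left h.two
    have k2 : c ≠ 0 → (ρ m (0, 0, c)).1 ≠ 0 := fun hc e => by
      obtain ⟨b, hb⟩ := pt (ρ m (0, 0, c)).2.2
      have := (ρ m).injective (hb.trans (Eq.symm (a := ρ m (0, 0, c)) (Prod.ext e (Prod.ext k1 rfl))))
      exact hc (congrArg (·.2.2) this).symm
    refine ⟨Prod.ext rfl (Prod.ext k1 ?_), k2⟩
    by_cases hc : c = 0
    · subst hc; exact congrArg (·.2.2) (h.zero m)
    obtain ⟨a, ha⟩ := pt c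
    have := h.conic g g0 (m * m) a
    rw [ap, ha, k1, zero_pow two_ne_zero] at this
    exact (mul_eq_zero.1 this).resolve_left (k2 hc)
  obtain ⟨f, hf⟩ : ∃ f : F → F, ∀ a, ρ m (a, 0, 0) = (0, 0, f a) := ⟨_, e1⟩
  obtain ⟨u, hu⟩ : ∃ f : F → F, ∀ a, ρ m (0, a, 0) = (0, f a, 0) := ⟨_, e2⟩
  obtain ⟨w, hw, hw0⟩ : ∃ f : F → F, (∀ a, ρ m (0, 0, a) = (f a, 0, 0)) ∧ ∀ c ≠ 0, f c ≠ 0 :=
    ⟨_, fun a => (e3 a).1, fun a => (e3 a).2⟩
  have e4 : ∀ a b c, ρ m (a, b, c) = (w c, u b, f a) := fun a b c => by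
    rw [show ((a, b, c) : F × F × F) = (a, 0, 0) + ((0, b, 0) + (0, 0, c)) by simp, h.add, h.add, hf, hu, hw]
    simp
  have ad : ∀ a b, u (a + b) = u a + u b ∧ f (a + b) = f a + f b := fun a b => by
    have := h.add m (a, a, 0) (b, b, 0)
    simp only [Prod.mk_add_mk, e4, Prod.mk.injEq] at this
    exact this.2
  have e5 : ∀ s c, w c * f (s ^ 2 * c) = u (s * c) ^ 2 := fun s c => by
    obtain ⟨a, ha⟩ := pt c
    obtain ⟨k, hk⟩ := h.ex s 1 one_ne_zero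
    have := h.conic g g0 (m * k * m) a
    rw [ap, ap, ha, hk] at this
    simpa [sy, e4] using this
  have e6 : ∀ s t, w 1 * f (s * t) = u s * u t := fun s t => by
    have k1 := e5 (s + t) 1
    have k2 := e5 s 1
    have k3 := e5 t 1
    rw [show (s + t) ^ 2 * 1 = s ^ 2 * 1 + (t ^ 2 * 1 + (s * t + s * t)) by ring, (ad _ _).2, (ad _ _).2, (ad _ _).2,
      mul_one (s + t), (ad _ _).1] at k1
    rw [mul_one s] at k2
    rw [mul_one t] at k3
    exact mul_left_cancel₀ h.two (by linear_combination k1 - k2 - k3)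
  have u0 : ∀ b ≠ 0, u b ≠ 0 := fun b hb e => hb (congrArg (·.2.1) ((ρ m).injective
    ((hu b).trans (by rw [e]; exact (h.zero m).symm))))
  have w1 := hw0 1 one_ne_zero
  have u1 := u0 1 one_ne_zero
  have e7 : ∀ s, f s = u s * u 1 / w 1 := fun s => by rw [← e6, mul_one]; field_simp
  let σ : F →+* F :=
    { toFun := fun s => u s / u 1
      map_one' := div_self u1
      map_mul' := fun s t => by
        have := e6 s t
        rw [e7] at this
        field_simp at this ⊢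
        linear_combination this
      map_zero' := by have := (ad 0 0).1; rw [add_zero, left_eq_add] at this; rw [this, zero_div]
      map_add' := fun s t => by rw [(ad s t).1, add_div] }
  refine ⟨m, σ, w 1, u 1, w1, u1, fun a b c => ?_⟩
  rw [e4, e7]
  refine Prod.ext ?_ (Prod.ext ?_ ?_)
  · by_cases hc : c = 0
    · subst hc
      have := congrArg Prod.fst ((hw 0).symm.trans (h.zero m))
      simpa using this
    have := e5 1 c
    have k := u0 c hc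
    rw [one_pow, one_mul, e7] at this
    change w c = w 1 * (u c / u 1)
    field_simp at this ⊢
    linear_combination this
  · change u b = u 1 * (u b / u 1); field_simp
  · change u a * u 1 / w 1 = u 1 ^ 2 / w 1 * (u a / u 1); field_simp

theorem real_dg {μ : F} (hμ : μ ≠ 0) : Real ρ μ 0 0 1 := by
  obtain ⟨m, σ, η, γ, -, -, hm⟩ := h.form g g0
  obtain ⟨l, rfl⟩ := Finite.surjective_of_injective σ.injective μ
  obtain ⟨k, hk⟩ := h.ex 0 l (by rintro rfl; exact hμ σ.map_zero)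
  refine ⟨m * k * m⁻¹, fun v => ?_⟩
  obtain ⟨⟨a, b, c⟩, rfl⟩ := (ρ m).surjective v
  rw [ap, ap, inv_ap, hk]
  simp only [sy, hm, Prod.mk.injEq]
  refine ⟨?_, ?_, ?_⟩ <;> simp <;> ring

theorem sq_of {m : N} {κ : F} (e : ρ m (1, 0, 0) = (κ, 0, 0)) : ∃ y ≠ 0, κ = y * y := by
  have hκ : κ ≠ 0 := fun e1 => one_ne_zero (congrArg Prod.fst ((ρ m).injective
    (e.trans (by rw [e1]; exact (h.zero m).symm))))
  rcases h.sq κ with ⟨y, hy⟩ | ⟨y, hy⟩
  · exact ⟨y, by rintro rfl; exact hκ (by rw [hy, mul_zero]), hy⟩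
  exfalso
  have hy0 : y ≠ 0 := by rintro rfl; exact hκ (by linear_combination -hy)
  have k : ∀ a : F, a ≠ 0 → ∃ k, ρ k (1, 0, 0) = (a, 0, 0) := fun a ha => by
    rcases h.sq a with ⟨z, hz⟩ | ⟨z, hz⟩
    · obtain ⟨k, hk⟩ := h.real_dg g g0 (μ := z) (by rintro rfl; exact ha (by rw [hz, mul_zero]))
      exact ⟨k, by rw [hk, hz]; simp [sy, pow_two]⟩
    · obtain ⟨k, hk⟩ := h.real_dg g g0 (μ := z / y) (div_ne_zero (by
        rintro rfl; exact ha (by linear_combination -hz)) hy0)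
      refine ⟨k * m, ?_⟩
      rw [ap, e, hk]
      simp only [sy, Prod.mk.injEq]
      refine ⟨?_, by simp, by simp⟩
      field_simp
      linear_combination -z ^ 2 * hy + y ^ 2 * hz
  obtain ⟨a, b, ha, hb, hab⟩ := h.nt
  obtain ⟨k1, e1⟩ := k a ha
  obtain ⟨k2, e2⟩ := k b hb
  exact hab (k2 * k1⁻¹) (by rw [ap, ← e1, inv_ap, e2])

theorem of_fix {m : N} (e : (ρ m (1, 0, 0)).2 = 0) : ∃ y s l : F, y ≠ 0 ∧ l ≠ 0 ∧ ∀ v, ρ m v = sy y s 0 l v := by
  obtain ⟨y, hy, e1⟩ := h.sq_of g g0 (m := m) (κ := (ρ m (1, 0, 0)).1) (Prod.ext rfl e)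
  obtain ⟨k, hk⟩ := h.real_dg g g0 hy
  obtain ⟨s, l, hl, hs⟩ := h.stab (k⁻¹ * m) 1 one_ne_zero (by
    rw [ap]
    refine (congrArg (ρ k⁻¹) ?_).trans (inv_ap k _)
    rw [hk]
    exact Prod.ext (by rw [e1]; simp [sy, pow_two]) (by rw [e]; simp [sy, Prod.ext_iff]))
  refine ⟨y, y * s, l, hy, hl, fun v => ?_⟩
  rw [← ap_inv (ρ := ρ) k (ρ m v), ← ap k⁻¹, hs, hk, sy_sy]; simp

theorem form' : ∃ (m : N) (η γ : F), η ≠ 0 ∧ γ ≠ 0 ∧ ∀ a b c, ρ m (a, b, c) = (η * c, γ * b, γ ^ 2 / η * a) := by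
  obtain ⟨m, σ, η, γ, h1, h2, hm⟩ := h.form g g0
  obtain ⟨y, s, l, -, -, hs⟩ := h.of_fix g g0 (m := m * m) (by rw [ap, hm, hm]; simp)
  have k1 : ∀ a, η * σ (γ ^ 2 / η) * σ (σ a) = y ^ 2 * a := fun a => by
    have := congrArg Prod.fst (hs (a, 0, 0))
    rw [ap, hm, hm, map_mul] at this
    simp only [sy] at this
    linear_combination this
  have k2 : ∀ a, σ (σ a) = a := fun a => mul_left_cancel₀ (mul_ne_zero h1 ((map_ne_zero σ).2
    (div_ne_zero (pow_ne_zero 2 h2) h1))) (by rw [k1, ← mul_one (y ^ 2), ← k1, map_one, map_one, mul_one])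
  have k3 : ∀ a, σ a = a := fun a => by
    by_contra h0
    have k4 : ∀ w y : F, w ≠ 0 → σ w = -w → w ≠ y * y := by
      rintro _ y h3 h4 rfl
      have h5 : y ≠ 0 := fun e => h3 (by rw [e, mul_zero])
      exact h.nsq ⟨σ y / y, by rw [map_mul] at h4; field_simp; linear_combination -h4⟩
    rcases h.sq (σ a - a) with ⟨z, hz⟩ | ⟨z, hz⟩
    · exact k4 _ z (sub_ne_zero.2 h0) (by rw [map_sub, k2]; ring) hz
    · exact k4 _ z (neg_ne_zero.2 (sub_ne_zero.2 h0)) (by rw [map_neg, map_sub, k2]; ring) hz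
  exact ⟨m, η, γ, h1, h2, fun a b c => by rw [hm, k3, k3, k3]⟩

theorem real_up {y l : F} (s : F) (hy : y ≠ 0) (hl : l ≠ 0) : Real ρ y s 0 l :=
  (h.real_dg g g0 hy).mul (h.ex (s / y) l hl) (by simp) (by field_simp; ring) (by simp) (by simp)

theorem real_low (s : F) : Real ρ 1 0 s 1 := by
  obtain ⟨m, η, γ, h1, h2, hm⟩ := h.form' g g0
  obtain ⟨k, hk⟩ := h.ex (s * η / γ) 1 one_ne_zero
  refine ⟨m * k * m⁻¹, fun v => ?_⟩
  obtain ⟨⟨a, b, c⟩, rfl⟩ := (ρ m).surjective v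
  rw [ap, ap, inv_ap, hk]
  simp only [sy, hm, Prod.mk.injEq]
  refine ⟨?_, ?_, ?_⟩ <;> field_simp <;> ring

theorem real_w : Real ρ 0 1 (-1) 0 :=
  ((h.real_up g g0 1 one_ne_zero one_ne_zero).mul (h.real_low g g0 (-1)) rfl rfl rfl rfl).mul
    (h.real_up g g0 1 one_ne_zero one_ne_zero) (by simp) (by simp) (by simp) (by simp)

theorem real_all {p q r s : F} (e : p * s - q * r ≠ 0) : Real ρ p q r s := by
  by_cases hr : r = 0
  · subst hr
    exact h.real_up g g0 q (fun e1 => e (by simp [e1])) fun e1 => e (by simp [e1])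
  · exact ((h.real_up g g0 (-p / r) one_ne_zero (neg_ne_zero.2 one_ne_zero)).mul (h.real_w g g0) rfl rfl rfl rfl).mul
      (h.real_up g g0 (y := r) (l := -(p * s - q * r) / r) s hr (div_ne_zero (neg_ne_zero.2 e) hr))
      (by field_simp; ring) (by field_simp; ring) (by simp) (by simp)

theorem all_sy (m : N) : ∃ p q r s : F, p * s - q * r ≠ 0 ∧ ∀ v, ρ m v = sy p q r s v := by
  by_cases e : (ρ m (1, 0, 0)).2 = 0
  · obtain ⟨y, s, l, hy, hl, hs⟩ := h.of_fix g g0 e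
    exact ⟨y, s, 0, l, by simp [hy, hl], hs⟩
  have hz : (ρ m (1, 0, 0)).2.2 ≠ 0 := fun e1 => e (Prod.ext (h.third one_ne_zero e1) e1)
  obtain ⟨k, hk⟩ := h.real_all g g0 (p := 0) (q := 1) (r := -1) (s := (ρ m (1, 0, 0)).2.1 / (ρ m (1, 0, 0)).2.2)
    (by simp)
  have h1 := h.conic g g0 m 1
  obtain ⟨y, s, l, hy, hl, hs⟩ := h.of_fix g g0 (m := k * m) (by
    rw [ap, hk]
    refine Prod.ext ?_ ?_ <;> simp only [sy, Prod.fst_zero, Prod.snd_zero] <;> field_simp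
    · ring
    · linear_combination h1)
  generalize (ρ m (1, 0, 0)).2.1 / (ρ m (1, 0, 0)).2.2 = t at hk
  refine ⟨t * y, t * s - l, y, s, fun e => mul_ne_zero hy hl (by linear_combination e), fun v => ?_⟩
  have := congrArg (sy t (-1) 1 0) (hs v)
  rw [ap, hk, sy_sy, sy_sy] at this
  simpa [sy_one, sub_eq_add_neg] using this

end Norm

omit h [Finite F] in
/-- The shear. -/
def shear (φ : F →+ F) : Equiv.Perm (F × F × F) where
  toFun v := (v.1 - φ v.2.2, v.2)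
  invFun v := (v.1 + φ v.2.2, v.2)
  left_inv v := by simp
  right_inv v := by simp

omit h [Finite F] in
/-- The conjugated action. -/
def tw (ρ : N →* Equiv.Perm (F × F × F)) (φ : F →+ F) : N →* Equiv.Perm (F × F × F) :=
  (MulAut.conj (shear φ)).toMonoidHom.comp ρ

omit h [Finite F] in
theorem tw_ap (φ : F →+ F) (n : N) (v : F × F × F) : tw ρ φ n v = shear φ (ρ n (v.1 + φ v.2.2, v.2)) := rfl

omit [Finite F] in
theorem ch_tw {φ : F →+ F} (hφ : ∀ l c, l ≠ 0 → φ (l ^ 2 * c) = φ c) : CH (tw ρ φ) := by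
  have k1 : ∀ s l v, l ≠ 0 → shear φ (sy 1 s 0 l (v.1 + φ v.2.2, v.2)) = sy 1 s 0 l v := fun s l v hl => by
    simp [shear, sy, hφ _ _ hl]; ring
  have k2 : ∀ n a b, tw ρ φ n (a, 0, 0) = (b, 0, 0) → ρ n (a, 0, 0) = (b, 0, 0) := fun n a b e => by
    rw [tw_ap, map_zero, add_zero] at e
    exact (shear φ).injective (e.trans (by simp [shear]))
  refine ⟨fun n v w => ?_, fun s l hl => ?_, fun n a ha e => ?_, ?_, h.nsq, h.sq⟩
  · rw [tw_ap, tw_ap, tw_ap, show (((v + w).1 + φ (v + w).2.2, (v + w).2) : F × F × F) =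
      (v.1 + φ v.2.2, v.2) + (w.1 + φ w.2.2, w.2) by simp; ring, h.add]
    simp [shear]; ring
  · obtain ⟨n, hn⟩ := h.ex s l hl
    exact ⟨n, fun v => by rw [tw_ap, hn, k1 _ _ _ hl]⟩
  · obtain ⟨s, l, hl, hs⟩ := h.stab n a ha (k2 _ _ _ e)
    refine ⟨s, l, hl, fun v => ?_⟩
    rw [tw_ap, hs, k1 _ _ _ hl]
  · obtain ⟨a, b, ha, hb, e⟩ := h.nt
    exact ⟨a, b, ha, hb, fun n e1 => e n (k2 _ _ _ e1)⟩

/-- The main result. -/
theorem main {n : N} (e : (ρ n (1, 0, 0)).2 ≠ 0) : ∃ φ : F →+ F, (∀ l c, l ≠ 0 → φ (l ^ 2 * c) = φ c) ∧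
    (∀ p q r s, p * s - q * r ≠ 0 → Real (tw ρ φ) p q r s) ∧
    ∀ m, ∃ p q r s : F, p * s - q * r ≠ 0 ∧ ∀ v, tw ρ φ m v = sy p q r s v := by
  obtain ⟨k, -, g⟩ := h.exists_good one_ne_zero e
  obtain ⟨φ, h1, h2⟩ := h.exists_shear g
  have h' := h.ch_tw h1
  have g' : Good (tw ρ φ) (k * n) := ⟨fun a => by simpa [tw_ap, shear] using g.1 a,
    fun a ha => by simpa [tw_ap, shear] using g.2 a ha⟩
  have g0 : ∀ a, (tw ρ φ (k * n) (a, 0, 0)).1 = 0 := fun a => by simpa [tw_ap, shear, sub_eq_zero] using h2 a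
  exact ⟨φ, h1, fun _ _ _ _ => h'.real_all g' g0, h'.all_sy g' g0⟩

/-- For `q > 3` no shear is needed. -/
theorem main' {n : N} (e : (ρ n (1, 0, 0)).2 ≠ 0) {l : F} (l0 : l ≠ 0) (l1 : l ^ 2 ≠ 1) :
    (∀ p q r s, p * s - q * r ≠ 0 → Real ρ p q r s) ∧
    ∀ m, ∃ p q r s : F, p * s - q * r ≠ 0 ∧ ∀ v, ρ m v = sy p q r s v := by
  obtain ⟨φ, h1, h2⟩ := h.main e
  have h3 : ∀ c, φ c = 0 := fun c => by
    have := sub_ne_zero.2 l1
    rw [show c = l ^ 2 * (c / (l ^ 2 - 1)) - c / (l ^ 2 - 1) by field_simp, map_sub, h1 _ _ l0, sub_self]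
  have h4 : tw ρ φ = ρ := MonoidHom.ext fun m => Equiv.ext fun v => by simp [tw_ap, shear, h3]
  rwa [h4] at h2

end CH

/-- The action of `GL₂` on symmetric matrices. -/
def syP : GL (Fin 2) F →* Equiv.Perm (F × F × F) := MonoidHom.toHomPerm
  { toFun := fun g => sy (g 0 0) (g 0 1) (g 1 0) (g 1 1)
    map_one' := funext fun v => by simp [sy]; rfl
    map_mul' := fun g k => funext fun v => by
      change _ = sy _ _ _ _ (sy _ _ _ _ v)
      rw [sy_sy]; simp }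

theorem syP_ap (g : GL (Fin 2) F) (v : F × F × F) : syP g v = sy (g 0 0) (g 0 1) (g 1 0) (g 1 1) v := rfl

theorem mem_ker_syP {g : GL (Fin 2) F} : g ∈ (syP : _ →* Equiv.Perm (F × F × F)).ker ↔
    g 0 1 = 0 ∧ g 1 0 = 0 ∧ g 1 1 = g 0 0 ∧ g 0 0 ^ 2 = 1 := by
  rw [MonoidHom.mem_ker, Equiv.ext_iff]
  refine ⟨fun e => ?_, fun ⟨h1, h2, h3, h4⟩ v => ?_⟩
  · have h1 := e (1, 0, 0)
    have h2 := e (0, 1, 0)
    have h3 := e (0, 0, 1)
    simp [syP_ap, sy] at h1 h2 h3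
    have h4 : g 0 0 * g 0 0 = 1 := mul_self_eq_one_iff.2 h1.1
    refine ⟨h3.1, h1.2.2, ?_, by rw [pow_two, h4]⟩
    have h5 := h2.2.1
    rw [h3.1, zero_mul, add_zero] at h5
    linear_combination g 0 0 * h5 - g 1 1 * h4
  · simp [syP_ap, sy, h1, h2, h3, h4, ← pow_two]

theorem CH.range_eq [Finite F] {N : Type*} [Group N] {ρ : N →* Equiv.Perm (F × F × F)} (h : CH ρ) {n : N}
    (e : (ρ n (1, 0, 0)).2 ≠ 0) : Nonempty (ρ.range ≃* (syP : GL (Fin 2) F →* _).range) := by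
  obtain ⟨φ, -, h2, h3⟩ := h.main e
  have h4 : (CH.tw ρ φ).range = (syP : GL (Fin 2) F →* _).range := le_antisymm (by
    rintro _ ⟨m, rfl⟩
    obtain ⟨p, q, r, s, h4, h5⟩ := h3 m
    exact ⟨Matrix.GeneralLinearGroup.mkOfDetNeZero !![p, q; r, s] (by rwa [Matrix.det_fin_two_of]),
      Equiv.ext fun v => by rw [h5]; rfl⟩) (by
    rintro _ ⟨g, rfl⟩
    obtain ⟨m, hm⟩ := h2 _ _ _ _ (by rw [← Matrix.det_fin_two]; exact g.det_ne_zero)
    exact ⟨m, Equiv.ext hm⟩)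
  rw [← h4, CH.tw, MonoidHom.range_comp]
  exact ⟨(MulAut.conj (CH.shear φ)).subgroupMap _⟩

/-- `GL₂(q)/±1 ≅ PGL₂(q) × C` for `q ≡ 3 mod 4`. -/
theorem syP_range [Fintype F] (nsq : ¬ IsSquare (-1 : F)) (sq : ∀ a : F, IsSquare a ∨ IsSquare (-a)) :
    Nonempty ((syP : GL (Fin 2) F →* _).range ≃*
      Matrix.ProjGenLinGroup (Fin 2) F × Multiplicative (ZMod ((Fintype.card F - 1) / 2))) := by
  classical
  have h2 : (2 : F) ≠ 0 := fun e => nsq ⟨1, by linear_combination -e⟩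
  have hc : Nat.card (powMonoidHom 2 : Fˣ →* Fˣ).range = (Fintype.card F - 1) / 2 := by
    rw [IsCyclic.card_powMonoidHom_range, Nat.card_units, Nat.card_eq_fintype_card, Nat.gcd_eq_right]
    have := FiniteField.odd_card_of_char_ne_two (F := F) fun e => h2 (by
      have := ringChar.spec F 2; rw [e] at this; exact this.2 dvd_rfl)
    omega
  let d : (powMonoidHom 2 : Fˣ →* Fˣ).range ≃* Multiplicative (ZMod ((Fintype.card F - 1) / 2)) :=
    hc ▸ (zmodCyclicMulEquiv inferInstance).symm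
  let θ := (Matrix.ProjGenLinGroup.mk : GL (Fin 2) F →* _).prod
    (d.toMonoidHom.comp ((powMonoidHom 2 : Fˣ →* Fˣ).rangeRestrict.comp Matrix.GeneralLinearGroup.det))
  have hk : (syP : GL (Fin 2) F →* _).ker = θ.ker := by
    ext g
    have k : θ g = 1 ↔ (∃ a : F, Matrix.scalar (Fin 2) a = g) ∧ (g 0 0 * g 1 1 - g 0 1 * g 1 0) ^ 2 = 1 := by
      rw [Prod.ext_iff, ← Matrix.det_fin_two]
      refine and_congr (Matrix.ProjGenLinGroup.mk_eq_one.trans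
        Matrix.GeneralLinearGroup.mem_center_iff_val_mem_range_scalar) ?_
      change d _ = 1 ↔ _
      rw [map_eq_one_iff _ d.injective, Subtype.ext_iff, Units.ext_iff]
      simp
    rw [mem_ker_syP, MonoidHom.mem_ker, k]
    refine ⟨fun ⟨h1, h2, h3, h4⟩ => ⟨⟨g 0 0, ?_⟩, by rw [h1, h3, ← pow_two, h4]; simp⟩, fun ⟨⟨a, ha⟩, h4⟩ => ?_⟩
    · ext i j; fin_cases i <;> fin_cases j <;> simp [h1, h2, h3]
    · rw [← ha] at h4 ⊢
      simp only [Matrix.scalar_apply, Matrix.diagonal_apply_eq, ne_eq, zero_ne_one, not_false_eq_true,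
        Matrix.diagonal_apply_ne, one_ne_zero, mul_zero, sub_zero, true_and] at h4 ⊢
      exact (pow_two a).trans ((sq_eq_one_iff.1 h4).resolve_right fun e => nsq ⟨a, e.symm⟩)
  have hs : Function.Surjective θ := by
    rintro ⟨x, c⟩
    obtain ⟨g, rfl⟩ := Matrix.ProjGenLinGroup.mk_surjective x
    obtain ⟨⟨_, u, rfl⟩, rfl⟩ := d.surjective c
    have hd := g.det_ne_zero
    obtain ⟨y, hy⟩ : ∃ y : F, ((y * y) * g.1.det) ^ 2 = u ^ 2 := by
      rcases sq (u / g.1.det) with ⟨y, hy⟩ | ⟨y, hy⟩ <;> exact ⟨y, by rw [← hy]; field_simp⟩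
    have hy0 : y ≠ 0 := by rintro rfl; exact u.ne_zero (by simpa using hy.symm)
    refine ⟨Matrix.GeneralLinearGroup.scalar _ (Units.mk0 y hy0) * g, Prod.ext ?_ ?_⟩
    · change Matrix.ProjGenLinGroup.mk _ = Matrix.ProjGenLinGroup.mk g
      rw [map_mul, Matrix.ProjGenLinGroup.mk_scalar, one_mul]
    · refine congrArg d (Subtype.ext (Units.ext ?_))
      rw [mul_pow] at hy
      simpa [pow_two] using hy
  exact ⟨(QuotientGroup.quotientKerEquivRange _).symm.trans ((QuotientGroup.quotientMulEquivOfEq hk).trans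
    (QuotientGroup.quotientKerEquivOfSurjective _ hs))⟩

end Cfsg.Agent.Hay
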