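import Mathlib
import Cfsg.Agent.RootSub.SL2
import Cfsg.Agent.Class.Sp.Gen
import Cfsg.Agent.Class.SL2Sylow
import Cfsg.Agent.Grp.Card
import Cfsg.Agent.PLocal.AmbSyl

/-! The centralizer `q^{1+2} : SL₂(q)` of a transvection of `PSp₄(q)` in coordinates. -/

set_option autoImplicit false

namespace Cfsg.Agent.Hay

open Cfsg Subgroup Matrix Cfsg.Agent.RootSub Cfsg.Agent.Class.Sp Cfsg.Agent.PLocal.Amb
open scoped MatrixGroups

/-- The group `q^{1+2} : SL₂(q)`. -/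
@[ext] structure CM (F : Type*) [Field F] where
  x : F
  y : F
  a : F
  g : SL(2, F)

variable {F : Type*} [Field F]

@[simp] theorem mm2 (A B : Matrix (Fin 2) (Fin 2) F) (i j : Fin 2) :
    (A * B) i j = A i 0 * B 0 j + A i 1 * B 1 j := by simp [Matrix.mul_apply, Fin.sum_univ_two]
@[simp] theorem adj00 (A : Matrix (Fin 2) (Fin 2) F) : A.adjugate 0 0 = A 1 1 := by simp [adjugate_fin_two]
@[simp] theorem adj01 (A : Matrix (Fin 2) (Fin 2) F) : A.adjugate 0 1 = - A 0 1 := by simp [adjugate_fin_two]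
@[simp] theorem adj10 (A : Matrix (Fin 2) (Fin 2) F) : A.adjugate 1 0 = - A 1 0 := by simp [adjugate_fin_two]
@[simp] theorem adj11 (A : Matrix (Fin 2) (Fin 2) F) : A.adjugate 1 1 = A 0 0 := by simp [adjugate_fin_two]

/-- The diagonal matrix. -/
def dg (l : Fˣ) : SL(2, F) := ⟨!![l, 0; 0, (l : F)⁻¹], by simp [det_fin_two]⟩

@[simp] theorem dg_coe (l : Fˣ) : (dg l : Matrix (Fin 2) (Fin 2) F) = !![(l : F), 0; 0, (l : F)⁻¹] := rfl

namespace CM

instance instMulCM : Mul (CM F) := ⟨fun p q => ⟨p.x + (p.g 0 0 * q.x + p.g 0 1 * q.y),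
  p.y + (p.g 1 0 * q.x + p.g 1 1 * q.y),
  p.a + q.a + (p.x * (p.g 1 0 * q.x + p.g 1 1 * q.y) - p.y * (p.g 0 0 * q.x + p.g 0 1 * q.y)), p.g * q.g⟩⟩
instance instOneCM : One (CM F) := ⟨⟨0, 0, 0, 1⟩⟩
instance instInvCM : Inv (CM F) :=
  ⟨fun p => ⟨p.g 0 1 * p.y - p.g 1 1 * p.x, p.g 1 0 * p.x - p.g 0 0 * p.y, -p.a, p.g⁻¹⟩⟩

@[simp] theorem mul_x (p q : CM F) : (p * q).x = p.x + (p.g 0 0 * q.x + p.g 0 1 * q.y) := rfl
@[simp] theorem mul_y (p q : CM F) : (p * q).y = p.y + (p.g 1 0 * q.x + p.g 1 1 * q.y) := rfl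
@[simp] theorem mul_a (p q : CM F) : (p * q).a =
  p.a + q.a + (p.x * (p.g 1 0 * q.x + p.g 1 1 * q.y) - p.y * (p.g 0 0 * q.x + p.g 0 1 * q.y)) := rfl
@[simp] theorem mul_g (p q : CM F) : (p * q).g = p.g * q.g := rfl
@[simp] theorem one_x : (1 : CM F).x = 0 := rfl
@[simp] theorem one_y : (1 : CM F).y = 0 := rfl
@[simp] theorem one_a : (1 : CM F).a = 0 := rfl
@[simp] theorem one_g : (1 : CM F).g = 1 := rfl
@[simp] theorem inv_x (p : CM F) : p⁻¹.x = p.g 0 1 * p.y - p.g 1 1 * p.x := rfl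
@[simp] theorem inv_y (p : CM F) : p⁻¹.y = p.g 1 0 * p.x - p.g 0 0 * p.y := rfl
@[simp] theorem inv_a (p : CM F) : p⁻¹.a = -p.a := rfl
@[simp] theorem inv_g (p : CM F) : p⁻¹.g = p.g⁻¹ := rfl

instance instGroupCM : Group (CM F) := Group.ofLeftAxioms
  (fun p q r => by
    have h := sl2_det p.g
    refine CM.ext ?_ ?_ ?_ (mul_assoc _ _ _) <;> simp only [mul_x, mul_y, mul_a, mul_g, sl2_mul_apply]
    · ring
    · ring
    · linear_combination (q.x * (q.g 1 0 * r.x + q.g 1 1 * r.y) - q.y * (q.g 0 0 * r.x + q.g 0 1 * r.y)) * h)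
  (fun p => by refine CM.ext ?_ ?_ ?_ (one_mul _) <;> simp)
  (fun p => by refine CM.ext ?_ ?_ ?_ (inv_mul_cancel _) <;> simp <;> ring)

instance instFiniteCM [Finite F] : Finite (CM F) :=
  Finite.of_injective (fun p : CM F => (p.x, p.y, p.a, p.g)) fun p q h => by
    simp only [Prod.mk.injEq] at h; exact CM.ext h.1 h.2.1 h.2.2.1 h.2.2.2

theorem ext' {p q : CM F} (h1 : p.x = q.x) (h2 : p.y = q.y) (h3 : p.a = q.a) (h4 : p.g 0 0 = q.g 0 0)
    (h5 : p.g 0 1 = q.g 0 1) (h6 : p.g 1 0 = q.g 1 0) (h7 : p.g 1 1 = q.g 1 1) : p = q :=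
  CM.ext h1 h2 h3 (sl2_ext h4 h5 h6 h7)

theorem eq_iff {p q : CM F} : p = q ↔ p.x = q.x ∧ p.y = q.y ∧ p.a = q.a ∧ p.g 0 0 = q.g 0 0 ∧
    p.g 0 1 = q.g 0 1 ∧ p.g 1 0 = q.g 1 0 ∧ p.g 1 1 = q.g 1 1 :=
  ⟨by rintro rfl; simp, fun h => ext' h.1 h.2.1 h.2.2.1 h.2.2.2.1 h.2.2.2.2.1 h.2.2.2.2.2.1 h.2.2.2.2.2.2⟩

end CM

/-- The elements of the abelian subgroup `M` of order `q³`. -/
@[simps] def mm (a b c : F) : CM F := ⟨b, 0, a, xx c⟩
/-- Representatives for `N_C(M)/M`. -/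
@[simps] def bb (s : F) (l : Fˣ) : CM F := ⟨0, -s, 0, dg l⟩
/-- The involution. -/
@[simps] def tt : CM F := ⟨0, 0, 0, -1⟩
/-- The complement `SL₂(q)`. -/
@[simps] def inl : SL(2, F) →* CM F where
  toFun g := ⟨0, 0, 0, g⟩
  map_one' := rfl
  map_mul' g h := by refine CM.ext ?_ ?_ ?_ rfl <;> simp
/-- The projection to `SL₂(q)`. -/
@[simps] def pr : CM F →* SL(2, F) where
  toFun p := p.g
  map_one' := rfl
  map_mul' _ _ := rfl

theorem mm_mul (a b c a' b' c' : F) : mm a b c * mm a' b' c' = mm (a + a') (b + b') (c + c') := by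
  apply CM.ext' <;> simp [add_comm]

theorem mm_zero : mm (0 : F) 0 0 = 1 := by apply CM.ext' <;> simp

theorem mm_inj {a b c a' b' c' : F} (h : mm a b c = mm a' b' c') : a = a' ∧ b = b' ∧ c = c' := by
  simp only [CM.eq_iff, mm_x, mm_a, mm_g, xx_01] at h; tauto

theorem mm_inv (a b c : F) : (mm a b c)⁻¹ = mm (-a) (-b) (-c) := by
  rw [inv_eq_iff_mul_eq_one, mm_mul]; simp [mm_zero]

theorem mm_pow (a b c : F) (n : ℕ) : mm a b c ^ n = mm (n * a) (n * b) (n * c) := by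
  induction n with
  | zero => simp [mm_zero]
  | succ n ih => rw [pow_succ, ih, mm_mul]; push_cast; congr 1 <;> ring

theorem zz_comm (a : F) (p : CM F) : p * mm a 0 0 = mm a 0 0 * p := by
  apply CM.ext' <;> simp [add_comm]

theorem bb_conj (s : F) (l : Fˣ) (a b c : F) : bb s l * mm a b c * (bb s l)⁻¹ =
    mm (a + 2 * s * l * b + s ^ 2 * l ^ 2 * c) (l * b + s * l ^ 2 * c) (l ^ 2 * c) := by
  rw [mul_inv_eq_iff_eq_mul]
  apply CM.ext' <;> simp <;> field_simp <;> ring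

/-- `M` as a homomorphic image. -/
def mH : Multiplicative (F × F × F) →* CM F where
  toFun v := mm v.toAdd.1 v.toAdd.2.1 v.toAdd.2.2
  map_one' := mm_zero
  map_mul' _ _ := (mm_mul ..).symm

theorem mH_inj : Function.Injective (mH : _ → CM F) := fun v w h => by
  obtain ⟨h1, h2, h3⟩ := mm_inj h
  exact Multiplicative.toAdd.injective (Prod.ext h1 (Prod.ext h2 h3))

/-- The subgroup `M`. -/
def M0 (F : Type*) [Field F] : Subgroup (CM F) := mH.range
/-- The centre. -/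
def Z0 (F : Type*) [Field F] : Subgroup (CM F) where
  carrier := {p | ∃ a, p = mm a 0 0}
  one_mem' := ⟨0, mm_zero.symm⟩
  mul_mem' := by rintro _ _ ⟨a, rfl⟩ ⟨b, rfl⟩; exact ⟨a + b, by simp [mm_mul]⟩
  inv_mem' := by rintro _ ⟨a, rfl⟩; exact ⟨-a, by simp [mm_inv]⟩
/-- The Sylow subgroup. -/
def P0 (F : Type*) [Field F] : Subgroup (CM F) := (upperUnipotentSL2 F).comap pr

theorem mem_M0 {p : CM F} : p ∈ M0 F ↔ ∃ a b c, p = mm a b c :=
  ⟨fun ⟨_, h⟩ => ⟨_, _, _, h.symm⟩, fun ⟨a, b, c, h⟩ => ⟨Multiplicative.ofAdd (a, b, c), h.symm⟩⟩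
theorem mm_mem (a b c : F) : mm a b c ∈ M0 F := mem_M0.2 ⟨a, b, c, rfl⟩
theorem mem_P0 {p : CM F} : p ∈ P0 F ↔ ∃ c, p.g = xx c := by
  rw [P0, mem_comap, mem_upper]; rfl
theorem M0_le_P0 : M0 F ≤ P0 F := fun p hp => by
  obtain ⟨a, b, c, rfl⟩ := mem_M0.1 hp; exact mem_P0.2 ⟨c, rfl⟩

theorem P0_eq {p : CM F} (hp : p ∈ P0 F) : ∃ a b c s, p = mm a b c * bb s 1 := by
  obtain ⟨c, hc⟩ := mem_P0.1 hp
  refine ⟨p.a - (p.x - c * p.y) * p.y, p.x - c * p.y, c, -p.y, ?_⟩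
  apply CM.ext' <;> simp [hc]

theorem borel_eq {p : CM F} (hp : p.g 1 0 = 0) : ∃ a b c s l, p = mm a b c * bb s l := by
  have h := sl2_det p.g
  rw [hp, mul_zero, sub_zero] at h
  refine ⟨p.a - (p.x - p.g 0 1 * p.g 0 0 * p.y) * p.y, p.x - p.g 0 1 * p.g 0 0 * p.y, p.g 0 1 * p.g 0 0, -p.y,
    Units.mk0 _ (left_ne_zero_of_mul_eq_one h), ?_⟩
  have h0 := left_ne_zero_of_mul_eq_one h
  apply CM.ext' <;> simp [hp, h0, eq_inv_of_mul_eq_one_right h]

theorem card_M0 [Finite F] : Nat.card (M0 F) = Nat.card F ^ 3 := by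
  rw [M0, ← Nat.card_congr (MonoidHom.ofInjective mH_inj).toEquiv]
  rw [Nat.card_congr Multiplicative.toAdd]
  simp [pow_three]

theorem card_P0 [Finite F] : Nat.card (P0 F) = Nat.card F ^ 4 := by
  have : Nat.card (P0 F) = Nat.card (F × F × F × F) := Nat.card_congr
    { toFun := fun p => (p.1.x, p.1.y, p.1.a, p.1.g 0 1)
      invFun := fun v => ⟨⟨v.1, v.2.1, v.2.2.1, xx v.2.2.2⟩, mem_P0.2 ⟨_, rfl⟩⟩
      left_inv := fun ⟨p, hp⟩ => by
        obtain ⟨c, hc⟩ := mem_P0.1 hp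
        exact Subtype.ext (CM.ext rfl rfl rfl (by simp [hc]))
      right_inv := fun _ => rfl }
  rw [this]; simp [pow_succ, mul_assoc]

theorem card_U : Nat.card (upperUnipotentSL2 F) = Nat.card F :=
  (Nat.card_congr (Equiv.ofBijective (fun r : F => (⟨xx r, xx_mem_upper r⟩ : upperUnipotentSL2 F))
    ⟨fun _ _ h => xx_injective (congrArg Subtype.val h), fun ⟨_, h⟩ => (mem_upper.1 h).imp fun _ e =>
      Subtype.ext e.symm⟩)).symm

theorem card_Z0 : Nat.card (Z0 F) = Nat.card F := (Nat.card_congr (Equiv.ofBijective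
  (fun a : F => (⟨mm a 0 0, a, rfl⟩ : Z0 F)) ⟨fun _ _ h => (mm_inj (congrArg Subtype.val h)).1,
    fun ⟨_, a, h⟩ => ⟨a, Subtype.ext h.symm⟩⟩)).symm

section Two
variable (h2 : (2 : F) ≠ 0)
include h2

theorem mem_M0_of_comm {p : CM F} (h : ∀ a b c, p * mm a b c = mm a b c * p) : p ∈ M0 F := by
  have h1 := CM.eq_iff.1 (h 0 1 0)
  simp at h1
  obtain ⟨k1, k2, k3⟩ := h1
  have k4 := sl2_det p.g
  have k5 : p.g 0 0 = 1 := by linear_combination k1
  have k6 : p.y = 0 := by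
    rw [k2, k5] at k3
    exact (mul_eq_zero.1 (show 2 * p.y = 0 by linear_combination -k3)).resolve_left h2
  refine mem_M0.2 ⟨p.a, p.x, p.g 0 1, ?_⟩
  apply CM.ext' <;> simp [k2, k5, k6]
  rw [k2, k5] at k4; linear_combination k4

theorem eq_of_comm {a b c : F} {p : CM F} (hp : p ∈ P0 F) (hp' : p ∉ M0 F) (h : p * mm a b c = mm a b c * p) :
    b = 0 ∧ c = 0 := by
  obtain ⟨a', b', c', s, rfl⟩ := P0_eq hp
  have hs : s ≠ 0 := fun e => hp' (by
    have : bb (0 : F) 1 = 1 := by apply CM.ext' <;> simp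
    rw [e, this, mul_one]; exact mm_mem ..)
  have h1 := CM.eq_iff.1 h
  simp at h1
  obtain ⟨k1, k2, -⟩ := h1
  have k3 : c = 0 := (mul_eq_zero.1 (show s * c = 0 by linear_combination k1)).resolve_left hs
  subst k3
  exact ⟨(mul_eq_zero.1 (show 2 * s * b = 0 by linear_combination k2)).resolve_left (mul_ne_zero h2 hs), rfl⟩

theorem bb_not_mem : bb (1 : F) 1 ∉ M0 F := fun h => by
  obtain ⟨a, b, c, h⟩ := mem_M0.1 h
  simpa using congrArg CM.y h

theorem bb_mem (s : F) : bb s 1 ∈ P0 F := mem_P0.2 ⟨0, by apply sl2_ext <;> simp⟩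

theorem mem_Z0_of_comm {p : CM F} (h : ∀ q ∈ P0 F, q * p = p * q) : p ∈ Z0 F := by
  obtain ⟨a, b, c, rfl⟩ := mem_M0.1 (mem_M0_of_comm h2 fun a b c => (h _ (M0_le_P0 (mm_mem a b c))).symm)
  obtain ⟨rfl, rfl⟩ := eq_of_comm h2 (bb_mem h2 1) (bb_not_mem h2) (h _ (bb_mem h2 1))
  exact ⟨a, rfl⟩

theorem eq_M0 [Finite F] {A : Subgroup (CM F)} (hA : A ≤ P0 F) (hc : ∀ x ∈ A, ∀ y ∈ A, x * y = y * x)
    (hcard : Nat.card A = Nat.card F ^ 3) : A = M0 F := by
  by_cases h : A ≤ M0 F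
  · exact eq_of_le_of_card_ge h (by rw [hcard, card_M0])
  exfalso
  obtain ⟨p, hp, hp'⟩ := SetLike.not_le_iff_exists.1 h
  have h1 : A ⊓ M0 F ≤ Z0 F := fun x hx => by
    obtain ⟨a, b, c, rfl⟩ := mem_M0.1 hx.2
    obtain ⟨rfl, rfl⟩ := eq_of_comm h2 (hA hp) hp' (hc _ hp _ hx.1)
    exact ⟨a, rfl⟩
  have h3 := card_le_of_le h1
  have h4 : (M0 F).relIndex A ≤ (M0 F).relIndex (P0 F) := relIndex_le_of_le_right hA FiniteIndex.index_ne_zero
  have h5 := Grp.card_mul_relIndex (M0_le_P0 (F := F))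
  have h6 := Grp.card_inf_mul_relIndex' (M0 F) A
  have h7 : 1 < Nat.card F := Finite.one_lt_card
  rw [card_M0, card_P0, pow_succ _ 3, Nat.mul_right_inj (by positivity)] at h5
  rw [card_Z0, inf_comm] at h3
  rw [h5] at h4
  have h8 := Nat.mul_le_mul h3 h4
  rw [h6, hcard, ← pow_two] at h8
  exact absurd h8 (Nat.pow_lt_pow_right h7 (by norm_num)).not_ge

end Two

theorem borel_of_norm {p : CM F} (h : p * mm 0 1 0 * p⁻¹ ∈ M0 F) : p.g 1 0 = 0 := by
  obtain ⟨a, b, c, h⟩ := mem_M0.1 h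
  have h1 := congrArg CM.y h
  have h2 := sl2_det p.g
  simp at h1
  linear_combination h1 + p.y * h2

/-- The embedding into the symplectic group. -/
def kapM (p : CM F) : Matrix (Fin 2 ⊕ Fin 2) (Fin 2 ⊕ Fin 2) F :=
  fromBlocks !![1, p.x * p.g 1 0 - p.y * p.g 0 0; 0, p.g 0 0] !![p.a, p.x * p.g 1 1 - p.y * p.g 0 1; p.x, p.g 0 1]
    !![0, 0; 0, p.g 1 0] !![1, 0; p.y, p.g 1 1]

theorem kapM_mem (p : CM F) : kapM p ∈ symplecticGroup (Fin 2) F := by
  have h := sl2_det p.g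
  rw [mem_iff_preserves]
  intro u v
  simp only [form_eq, kapM, mulVec, dotProduct, Fintype.sum_sum_type, Fin.sum_univ_two, fromBlocks_apply₁₁,
    fromBlocks_apply₁₂, fromBlocks_apply₂₁, fromBlocks_apply₂₂, of_apply, cons_val', cons_val_zero, cons_val_one,
    cons_val_fin_one]
  linear_combination (u (.inr 1) * v (.inl 1) - u (.inl 1) * v (.inr 1)) * h

/-- The embedding into the symplectic group. -/
def kap : CM F →* symplecticGroup (Fin 2) F where
  toFun p := ⟨kapM p, kapM_mem p⟩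
  map_one' := Subtype.ext (by ext (i | i) (j | j) <;> fin_cases i <;> fin_cases j <;> simp [kapM])
  map_mul' p q := Subtype.ext (by
    have h := sl2_det p.g
    change kapM (p * q) = kapM p * kapM q
    ext (i | i) (j | j) <;> fin_cases i <;> fin_cases j <;>
      simp [kapM, fromBlocks_multiply] <;> first | ring1 | skip
    · linear_combination (q.x * q.g 1 0 - q.y * q.g 0 0) * h
    · linear_combination (q.x * q.g 1 1 - q.y * q.g 0 1) * h)

theorem kap_inj : Function.Injective (kap : CM F → _) := fun p q h => by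
  have h : kapM p = kapM q := congrArg Subtype.val h
  exact CM.ext' (congrFun (congrFun h (.inl 1)) (.inr 0)) (congrFun (congrFun h (.inr 1)) (.inr 0))
    (congrFun (congrFun h (.inl 0)) (.inr 0)) (congrFun (congrFun h (.inl 1)) (.inl 1))
    (congrFun (congrFun h (.inl 1)) (.inr 1)) (congrFun (congrFun h (.inr 1)) (.inl 1))
    (congrFun (congrFun h (.inr 1)) (.inr 1))

/-- The vector fixed by the image. -/
def e0 : Fin 2 ⊕ Fin 2 → F := Pi.single (.inl 0) 1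

theorem e0_ne : (e0 : _ → F) ≠ 0 := fun h => by simpa [e0] using congrFun h (.inl 0)

theorem kap_zz (a : F) : kap (mm a 0 0) = tv e0 a := ext_smul fun v => by
  rw [tv_smul, e0, form_single_inl_right, Class.Sp.smul_def]
  change kapM _ *ᵥ v = _
  ext (i | i) <;> fin_cases i <;> simp [kapM, mulVec, dotProduct, Fintype.sum_sum_type, Fin.sum_univ_two]

theorem exists_kap {g : symplecticGroup (Fin 2) F} (h : g • e0 = (e0 : _ → F)) : ∃ p, kap p = g := by
  have hc : ∀ i, g.1 i (.inl 0) = (e0 : _ → F) i := fun i => by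
    rw [← congrFun h i, Class.Sp.smul_def, e0, mulVec_single_one]; rfl
  have hf : ∀ i j, sympForm 2 F (fun k => g.1 k i) (fun k => g.1 k j) =
      sympForm 2 F (Pi.single i 1) (Pi.single j 1) := fun i j => by
    rw [← form_smul_smul g (Pi.single i 1), Class.Sp.smul_def, Class.Sp.smul_def, mulVec_single_one,
      mulVec_single_one]; rfl
  have c1 := hc (.inl 0); have c2 := hc (.inl 1); have c3 := hc (.inr 0); have c4 := hc (.inr 1)
  have f1 := hf (.inl 0) (.inl 1); have f2 := hf (.inl 0) (.inr 0); have f3 := hf (.inl 0) (.inr 1)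
  have f4 := hf (.inl 1) (.inr 1); have f5 := hf (.inl 1) (.inr 0); have f6 := hf (.inr 1) (.inr 0)
  simp [e0] at c1 c2 c3 c4
  simp [form_eq, c1, c2, c3, c4] at f1 f2 f3 f4 f5 f6
  refine ⟨⟨g.1 (.inl 1) (.inr 0), g.1 (.inr 1) (.inr 0), g.1 (.inl 0) (.inr 0),
    ⟨!![g.1 (.inl 1) (.inl 1), g.1 (.inl 1) (.inr 1); g.1 (.inr 1) (.inl 1), g.1 (.inr 1) (.inr 1)], ?_⟩⟩,
    Subtype.ext ?_⟩
  · rw [f1, f3] at f4
    rw [det_fin_two_of]; linear_combination -f4
  · change kapM _ = _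
    rw [f1, f2] at f5
    rw [f2, f3] at f6
    ext (i | i) (j | j) <;> fin_cases i <;> fin_cases j <;> simp [kapM, c1, c2, c3, c4, f1, f2, f3]
    · linear_combination f5
    · linear_combination f6

/-- The basic hypothesis: `q^{1+2} : SL₂(q)` is the centralizer of each non-identity element of its centre. -/
structure HS {G : Type*} [Group G] (ι : CM F →* G) : Prop where
  two : (2 : F) ≠ 0
  inj : Function.Injective ι
  cent : ∀ a ≠ 0, centralizer {ι (mm a 0 0)} = ι.range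

/-- The embedding into the projective symplectic group. -/
def kapP : CM F →* PSp 2 F := (QuotientGroup.mk' _).comp kap

theorem hs_kapP (h2 : (2 : F) ≠ 0) : HS (kapP : CM F →* PSp 2 F) := by
  have h3 : ∀ p : CM F, kap p • (e0 : _ → F) = e0 := fun p => by
    rw [Class.Sp.smul_def, e0, mulVec_single_one]
    change (kapM p)ᵀ _ = _
    ext (i | i) <;> fin_cases i <;> simp [kapM]
  have h4 : (-e0 : _ → F) ≠ e0 := fun h => h2 (by
    have := congrFun h (.inl 0); simp [e0] at this; linear_combination -this)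
  refine ⟨h2, (injective_iff_map_eq_one _).2 fun p hp => ?_, fun a ha => le_antisymm (fun g hg => ?_) ?_⟩
  · rcases Class.Sp.mem_center_iff.1 ((QuotientGroup.eq_one_iff _).1 hp) with h | h
    · exact kap_inj (h.trans (map_one _).symm)
    · exact absurd (by rw [← negOne_smul, ← h, h3]) h4
  · obtain ⟨g, rfl⟩ := QuotientGroup.mk_surjective g
    have h : kapP (mm a 0 0) = QuotientGroup.mk (g * kap (mm a 0 0) * g⁻¹) :=
      eq_mul_inv_of_mul_eq (mem_centralizer_singleton_iff.1 hg).symm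
    have h5 := Class.Sp.mem_center_iff.1 (QuotientGroup.eq.1 h)
    rw [kap_zz, inv_mul_eq_one, inv_mul_eq_iff_eq_mul] at h5
    rcases h5 with h5 | h5
    · obtain ⟨c, hc⟩ := fix_line_of_commute_tv ha (eq_mul_inv_iff_mul_eq.1 h5).symm
      rw [conj_tv, hc, tv_smul_vec, ← mul_inv_eq_one, tv_inv, tv_mul_tv, tv_eq_one_iff e0_ne] at h5
      rcases sq_eq_one_iff.1 (show c ^ 2 = 1 from mul_right_cancel₀ ha (by linear_combination -h5))
        with rfl | rfl
      · obtain ⟨p, rfl⟩ := exists_kap (hc.trans (one_smul _ _)); exact ⟨p, rfl⟩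
      · obtain ⟨p, hp⟩ := exists_kap (g := g * negOne 2 F) (by
          rw [mul_smul, negOne_smul, smul_neg, hc, neg_one_smul, neg_neg])
        refine ⟨p, QuotientGroup.eq.2 ?_⟩
        rw [hp, _root_.mul_inv_rev, inv_mul_cancel_right]; exact inv_mem negOne_mem_center
    · exfalso
      have h6 := congrArg (· • (g • (e0 : _ → F))) h5
      simp only [mul_smul, inv_smul_smul, negOne_smul, smul_neg] at h6
      rw [← kap_zz, h3, kap_zz, tv_smul, e0, form_single_inl_right] at h6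
      have h7 := congrFun h6 (.inr 0)
      have h8 : (g • (e0 : _ → F)) (.inr 0) = 0 := (mul_eq_zero.1 (show (2 : F) * _ = 0 by
        simp at h7; unfold e0; linear_combination h7)).resolve_left h2
      rw [e0] at h8
      rw [h8, mul_zero, zero_smul, add_zero, ← smul_neg, smul_left_cancel_iff] at h6
      exact h4 h6.symm
  · rintro _ ⟨p, rfl⟩
    rw [mem_centralizer_singleton_iff, ← map_mul, ← map_mul, zz_comm]

namespace HS

variable {G : Type*} [Group G] {ι : CM F →* G} (h : HS ι)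
include h

theorem mem_of_comm {a : F} (ha : a ≠ 0) {g : G} (e : g * ι (mm a 0 0) = ι (mm a 0 0) * g) : ∃ p, ι p = g :=
  (h.cent a ha).le (mem_centralizer_singleton_iff.2 e)

theorem conj_range {a b : F} (ha : a ≠ 0) {g : G} (e : g * ι (mm a 0 0) * g⁻¹ = ι (mm b 0 0)) (p : CM F) :
    ∃ q, ι q = g * ι p * g⁻¹ := by
  have hb : b ≠ 0 := by
    rintro rfl
    rw [mm_zero, map_one, conj_eq_one_iff, ← ι.map_one, ← mm_zero] at e
    exact ha (mm_inj (h.inj e)).1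
  refine h.mem_of_comm hb ?_
  rw [← e]
  calc _ = g * ι (p * mm a 0 0) * g⁻¹ := by rw [map_mul]; group
    _ = _ := by rw [zz_comm, map_mul]; group

theorem conj_Z {a b : F} (ha : a ≠ 0) {g : G} (e : g * ι (mm a 0 0) * g⁻¹ = ι (mm b 0 0)) (c : F) :
    ∃ d, g * ι (mm c 0 0) * g⁻¹ = ι (mm d 0 0) := by
  have hb : b ≠ 0 := by
    rintro rfl
    rw [mm_zero, map_one, conj_eq_one_iff, ← ι.map_one, ← mm_zero] at e
    exact ha (mm_inj (h.inj e)).1
  obtain ⟨q, hq⟩ := h.conj_range ha e (mm c 0 0)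
  obtain ⟨d, rfl⟩ := mem_Z0_of_comm h.two (p := q) fun r _ => h.inj (by
    obtain ⟨s, hs⟩ := h.conj_range hb (g := g⁻¹) (b := a) (by rw [← e]; group) r
    rw [map_mul, map_mul, hq, show ι r = g * ι s * g⁻¹ by rw [hs]; group]
    calc _ = g * ι (s * mm c 0 0) * g⁻¹ := by rw [map_mul]; group
      _ = _ := by rw [zz_comm, map_mul]; group)
  exact ⟨d, hq.symm⟩

variable [Finite G] {p : ℕ} [Fact p.Prime] [CharP F p]

omit [Fact p.Prime] [CharP F p] in
theorem fin : Finite F := Finite.of_injective (fun a : F => ι (mm a 0 0)) fun _ _ e => (mm_inj (h.inj e)).1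

theorem isP {A : Subgroup (CM F)} (hA : A ≤ P0 F) : IsPGroup p (A.map ι) := by
  have := h.fin
  have := Fintype.ofFinite F
  obtain ⟨n, -, hn⟩ := FiniteField.card F p
  refine (IsPGroup.to_le (IsPGroup.of_card (n := n * 4) ?_) hA).map ι
  rw [card_P0, Nat.card_eq_fintype_card, hn, pow_mul]

omit [Finite G] h in
theorem Z_le : Z0 F ≤ P0 F := by rintro _ ⟨a, rfl⟩; exact M0_le_P0 (mm_mem ..)

omit [Finite G] in
theorem Z_ne : (Z0 F).map ι ≠ ⊥ := fun e => by
  have := e.le (mem_map_of_mem ι (show mm (1 : F) 0 0 ∈ Z0 F from ⟨1, rfl⟩))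
  rw [mem_bot, ← ι.map_one, ← mm_zero] at this
  exact one_ne_zero (mm_inj (h.inj this)).1

omit [Finite G] in
theorem cent_of_mem {z : G} (hz : z ∈ (Z0 F).map ι) (z1 : z ≠ 1) : centralizer {z} = ι.range := by
  obtain ⟨_, ⟨a, rfl⟩, rfl⟩ := hz
  exact h.cent a (by rintro rfl; exact z1 (by rw [mm_zero, map_one]))

omit [Finite G] in
theorem cent_Z : 𝐂[(Z0 F).map ι] = ι.range := le_antisymm
  (fun g hg => h.mem_of_comm one_ne_zero (hg _ (mem_map_of_mem ι ⟨1, rfl⟩)).symm) (by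
    rintro _ ⟨q, rfl⟩ _ ⟨_, ⟨a, rfl⟩, rfl⟩
    rw [← map_mul, ← map_mul, zz_comm])

theorem mem_norm_Z {a b : F} (ha : a ≠ 0) {g : G} (e : g * ι (mm a 0 0) * g⁻¹ = ι (mm b 0 0)) :
    g ∈ 𝐍[(Z0 F).map ι] := mem_normalizer_of_cj_le (cj_le_iff_forall.2 (by
  rintro _ ⟨_, ⟨c, rfl⟩, rfl⟩
  obtain ⟨d, hd⟩ := h.conj_Z ha e c
  exact ⟨_, ⟨d, rfl⟩, hd.symm⟩))

/-- A `p`-subgroup normalizing `Z` centralizes it. -/
theorem le_range {R : Subgroup G} (hR : IsPGroup p R) (hn : R ≤ 𝐍[(Z0 F).map ι]) : R ≤ ι.range := by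
  obtain ⟨⟨z, hz⟩, z1⟩ := (ne_bot_iff_exists_ne_one).1 (inf_centralizer_ne_bot hR (h.isP Z_le) hn h.Z_ne)
  rw [← h.cent_of_mem hz.1 (fun e => z1 (Subtype.ext e))]
  exact fun g hg => mem_centralizer_singleton_iff.2 (hz.2 g hg)

omit [Finite G] in
theorem cent_P : (P0 F).map ι ⊓ 𝐂[(P0 F).map ι] = (Z0 F).map ι := le_antisymm (by
  rintro _ ⟨⟨q, -, rfl⟩, hq⟩
  exact ⟨q, mem_Z0_of_comm h.two fun r hr => h.inj (by
    rw [map_mul, map_mul]; exact hq _ (mem_map_of_mem ι hr)), rfl⟩)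
  (le_inf (map_mono Z_le) (le_centralizer_iff.1 (h.cent_Z ▸ map_le_range _ _)))

omit [Finite G] in
theorem norm_P : 𝐍[(P0 F).map ι] ≤ 𝐍[(Z0 F).map ι] :=
  h.cent_P ▸ le_normalizer_inf le_rfl (le_normalizer_centralizer le_rfl)

omit h [Finite G] in
theorem syl_P0 [Finite F] : IsSyl p (P0 F) ⊤ := by
  have := Fintype.ofFinite F
  obtain ⟨n, -, hn⟩ := FiniteField.card F p
  refine isSyl_of_not_dvd_relIndex (IsPGroup.of_card (n := n * 4) ?_) le_top ?_
  · rw [card_P0, Nat.card_eq_fintype_card, hn, pow_mul]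
  · rw [relIndex_top_right, P0, index_comap_of_surjective _ (fun g => ⟨inl g, rfl⟩)]
    have h1 := (upperUnipotentSL2 F).card_mul_index
    rw [card_U, Class.card_SL2, Nat.card_eq_fintype_card, Nat.mul_right_inj Fintype.card_ne_zero] at h1
    rw [h1]
    exact Class.not_dvd_pow_sub_one Fact.out (hn ▸ dvd_pow_self p n.ne_zero) Fintype.card_pos two_pos

theorem syl_P : IsSyl p ((P0 F).map ι) ⊤ := by
  have := h.fin
  have h1 := (syl_P0 (F := F) (p := p)).map ι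
  rw [← MonoidHom.range_eq_map] at h1
  exact isSyl_of_isSyl_normalizer ⟨le_inf le_top le_normalizer, h1.pgrp, fun R hR h2 h3 =>
    h1.max R hR h2 (h.le_range hR ((h3.trans inf_le_right).trans h.norm_P))⟩

omit [Finite G] in
theorem card_map (A : Subgroup (CM F)) : Nat.card (A.map ι) = Nat.card A := card_map_of_injective h.inj

theorem eq_M {A : Subgroup G} (hA : A ≤ (P0 F).map ι) (hc : ∀ x ∈ A, ∀ y ∈ A, x * y = y * x)
    (hcard : Nat.card A = Nat.card F ^ 3) : A = (M0 F).map ι := by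
  have := h.fin
  have h1 : (A.comap ι).map ι = A := map_comap_eq_self (hA.trans (map_le_range _ _))
  rw [← h1, eq_M0 h.two (A := A.comap ι) (fun x hx => (mem_map_iff_mem h.inj).1 (hA hx))
    (fun x hx y hy => h.inj (by rw [map_mul, map_mul]; exact hc _ hx _ hy)) (by rw [← h.card_map, h1, hcard])]

omit [Finite G] h in
theorem M_comm : ∀ x ∈ (M0 F).map ι, ∀ y ∈ (M0 F).map ι, x * y = y * x := by
  rintro _ ⟨x, hx, rfl⟩ _ ⟨y, hy, rfl⟩
  obtain ⟨a, b, c, rfl⟩ := mem_M0.1 hx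
  obtain ⟨a', b', c', rfl⟩ := mem_M0.1 hy
  rw [← map_mul, ← map_mul, mm_mul, mm_mul, add_comm a, add_comm b, add_comm c]

omit [Finite G] in
theorem cent_M : 𝐂[(M0 F).map ι] = (M0 F).map ι := le_antisymm (fun g hg => by
  obtain ⟨q, rfl⟩ := h.mem_of_comm one_ne_zero (hg _ (mem_map_of_mem ι (mm_mem 1 0 0))).symm
  exact mem_map_of_mem ι (mem_M0_of_comm h.two fun a b c => h.inj (by
    rw [map_mul, map_mul]; exact (hg _ (mem_map_of_mem ι (mm_mem a b c))).symm)))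
  fun x hx y hy => M_comm y hy x hx

include p in
/-- `M` is weakly closed. -/
theorem cj_M {g : G} {R : Subgroup G} (hR : IsPGroup p R) (h1 : (M0 F).map ι ≤ R) (h2 : cj(g, (M0 F).map ι) ≤ R) :
    g ∈ 𝐍[(M0 F).map ι] := by
  have := h.fin
  obtain ⟨y, -, hy⟩ := (h.syl_P (p := p)).exists_cj_le hR le_top
  have k : ∀ x : G, cj(x, (M0 F).map ι) ≤ (P0 F).map ι → cj(x, (M0 F).map ι) = (M0 F).map ι := fun x hx =>
    h.eq_M hx (by
      rintro _ ⟨a, ha, rfl⟩ _ ⟨b, hb, rfl⟩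
      rw [← map_mul, ← map_mul, M_comm a ha b hb]) (by rw [card_cj, h.card_map, card_M0])
  have k1 := k y ((cj_mono y h1).trans hy)
  have k2 := k (y * g) (cj_mul y g _ ▸ (cj_mono y h2).trans hy)
  rw [cj_mul, ← k1, cj_inj, k1] at k2
  exact cj_eq_iff.1 k2

include p in
/-- `N(M)` controls fusion in `M`. -/
theorem fuse {g m : G} (h1 : m ∈ (M0 F).map ι) (h2 : g * m * g⁻¹ ∈ (M0 F).map ι) :
    ∃ n ∈ 𝐍[(M0 F).map ι], n * m * n⁻¹ = g * m * g⁻¹ := by
  have k1 : (M0 F).map ι ≤ centralizer {g * m * g⁻¹} := fun x hx =>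
    mem_centralizer_singleton_iff.2 (M_comm _ hx _ h2)
  have k2 : cj(g, (M0 F).map ι) ≤ centralizer {g * m * g⁻¹} := by
    rw [centralizer_singleton_conj]
    exact cj_mono g fun x hx => mem_centralizer_singleton_iff.2 (M_comm _ hx _ h1)
  obtain ⟨T, hT, k3⟩ := exists_isSyl_ge (h.isP (p := p) M0_le_P0) k1
  obtain ⟨c, hc, k4⟩ := hT.exists_cj_le (isPGroup_cj g (h.isP (p := p) M0_le_P0)) k2
  refine ⟨c * g, h.cj_M hT.pgrp k3 (cj_mul c g _ ▸ k4), ?_⟩
  rw [show c * g * m * (c * g)⁻¹ = c * (g * m * g⁻¹) * c⁻¹ by group, mem_centralizer_singleton_iff.1 hc,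
    mul_inv_cancel_right]

end HS

/-- Translation of the hypotheses of the statements. -/
theorem exists_HS {G : Type*} [Group G] [Finite F] {p : ℕ} [Fact p.Prime] [CharP F p] (h2 : (2 : F) ≠ 0)
    {x : PSp 2 F} (hx : x ≠ 1) (U : Sylow p (PSp 2 F)) (hxU : x ∈ (U : Subgroup (PSp 2 F)))
    (hxc : ∀ y ∈ (U : Subgroup (PSp 2 F)), y * x = x * y) {α : G}
    (e : centralizer ({α} : Set G) ≃* centralizer ({x} : Set (PSp 2 F)))
    (hb : ∀ z ∈ centralizer ({α} : Set G), z ≠ 1 → (∀ c ∈ centralizer ({α} : Set G), c * z = z * c) →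
      centralizer ({z} : Set G) = centralizer ({α} : Set G)) :
    ∃ ι : CM F →* G, HS ι ∧ ι.range = centralizer {α} := by
  have h := hs_kapP h2
  obtain ⟨g, -, hg⟩ := (h.syl_P (p := p)).exists_cj_eq (isSyl_top U)
  have h3 : g * x * g⁻¹ ∈ (Z0 F).map kapP := by
    rw [← h.cent_P, ← hg, centralizer_cj, ← cj_inf]
    exact conj_mem_cj g ⟨hxU, hxc⟩
  have h4 := h.cent_of_mem h3 (by simpa using hx)
  rw [centralizer_singleton_conj] at h4
  let f : CM F ≃* centralizer ({α} : Set G) := ((MonoidHom.ofInjective h.inj).trans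
    ((MulEquiv.subgroupCongr h4.symm).trans ((MulAut.conj g).subgroupMap _).symm)).trans e.symm
  have hr : ((centralizer ({α} : Set G)).subtype.comp f.toMonoidHom).range = centralizer {α} := by
    rw [MonoidHom.range_comp, MonoidHom.range_eq_top.2 f.surjective, ← MonoidHom.range_eq_map, range_subtype]
  have hi : Function.Injective ((centralizer ({α} : Set G)).subtype.comp f.toMonoidHom) :=
    (subtype_injective _).comp f.injective
  refine ⟨_, ⟨h2, hi, fun a ha => ?_⟩, hr⟩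
  rw [hr]
  refine hb _ (f _).2 (fun e => ha (mm_inj (hi (e.trans (by rw [mm_zero, map_one])))).1) fun c hc => ?_
  obtain ⟨q, rfl⟩ := hr.ge hc
  rw [← map_mul, ← map_mul, zz_comm]

end Cfsg.Agent.Hay
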