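import Cfsg.Agent.Hay.Semi

/-! Central extensions of `L₂(3^m)` by a `2`-group inside an ambient group. -/

set_option autoImplicit false

namespace Cfsg.Agent.Hay

open Cfsg Subgroup Matrix Cfsg.Agent.RootSub Cfsg.Agent.PLocal.Amb Cfsg.Agent.Loc3 Cfsg.Agent.Class.Dickson
open scoped MatrixGroups

variable {K : Type*} [Field K]

theorem dg_xx (l : Kˣ) (c : K) : dg l * xx c * (dg l)⁻¹ = xx (l ^ 2 * c) := by
  apply sl2_ext <;> simp; ring

theorem borel_xx {s : SL(2, K)} (h : s 1 0 = 0) (c : K) : s * xx c * s⁻¹ = xx (s 0 0 ^ 2 * c) := by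
  have h1 := sl2_det s
  rw [h, mul_zero, sub_zero] at h1
  apply sl2_ext <;> simp [h]
  · exact h1
  · ring
  · linear_combination h1

section Three
variable [CharP K 3]

theorem mk_xx_inj {c d : K} (h : pslMk K (xx c) = pslMk K (xx d)) : c = d := by
  rcases pslMk_eq_iff.1 h with e | e
  · exact (xx_injective e).symm
  · have := congrArg (· 0 0) e
    simp at this
    exact absurd (by linear_combination this) (two3 (F := K))

theorem of_comm_xx {s : SL(2, K)} {c : K} (hc : c ≠ 0) (h : Commute (pslMk K s) (pslMk K (xx c))) :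
    ∃ d, pslMk K s = pslMk K (xx d) := by
  have h2 := sl2_det s
  have h3 := two3 (F := K)
  rcases pslMk_eq_iff.1 ((map_mul ..).trans (h.eq.trans (map_mul ..).symm)) with e | e
  · have k1 := congrArg (· 0 0) e
    have k2 := congrArg (· 0 1) e
    simp [hc] at k1 k2
    have k4 : s 1 1 = s 0 0 := mul_left_cancel₀ hc (by linear_combination k2)
    rw [k1, k4, mul_zero, sub_zero, mul_self_eq_one_iff] at h2
    rcases h2 with e | e
    · exact ⟨s 0 1, congrArg _ (by apply sl2_ext <;> simp [k1, k4, e])⟩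
    · exact ⟨-s 0 1, pslMk_eq_iff.2 (Or.inr (by apply sl2_ext <;> simp [k1, k4, e]))⟩
  · have k1 := congrArg (· 0 0) e
    have k2 := congrArg (· 1 0) e
    simp at k1 k2
    have k3 : s 1 0 = 0 := (mul_eq_zero.1 (show 2 * s 1 0 = 0 by linear_combination k2)).resolve_left h3
    have k4 : s 0 0 = 0 := (mul_eq_zero.1 (show 2 * s 0 0 = 0 by
      linear_combination k1 - c * k3)).resolve_left h3
    rw [k3, k4] at h2; simp at h2

theorem qi_ne (c : K) : pslMk K qi ≠ pslMk K (xx c) := fun h => by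
  rcases pslMk_eq_iff.1 h with e | e <;> simpa using congrArg (· 0 0) e

theorem mem_four {x : PSL(2, K)} (h1 : Commute x (pslMk K qi)) (h2 : Commute x (pslMk K qj)) :
    x ∈ (quat (F := K)).kleinPair.sub := by
  obtain ⟨s, rfl⟩ := pslMk_surjective x
  have q := quat (F := K)
  have k : ∀ y : SL(2, K), pslMk K y ∈ q.kleinPair.sub → (s * y) * qi * (s * y)⁻¹ = qi →
      (s * y) * qj * (s * y)⁻¹ = qj → pslMk K s ∈ q.kleinPair.sub := fun y hy e1 e2 => by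
    have := pslMk_eq_one_iff.2 (q.eq_of_centralizes e1 e2)
    rw [map_mul] at this
    rw [eq_inv_of_mul_eq_one_left this]; exact inv_mem hy
  have a1 : (qj : SL(2, K)) * qi * qj⁻¹ = -qi := by rw [q.inverts, q.inv_left]
  have a2 : (qi : SL(2, K)) * qj * qi⁻¹ = -qj := by
    rw [mul_inv_eq_iff_eq_mul, neg_mul, q.anticomm, neg_neg]
  have m : ∀ a b : SL(2, K), Commute (pslMk K a) (pslMk K b) → a * b * a⁻¹ = b ∨ a * b * a⁻¹ = -b := fun a b h =>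
    pslMk_eq_iff.1 (by rw [map_mul, map_mul, map_inv, conj_of_comm h])
  have c : ∀ y a : SL(2, K), s * y * a * (s * y)⁻¹ = s * (y * a * y⁻¹) * s⁻¹ := fun y a => by group
  rcases m _ _ h1 with e1 | e1 <;> rcases m _ _ h2 with e2 | e2
  · exact k 1 (one_mem _) (by rwa [mul_one]) (by rwa [mul_one])
  · exact k qi (by simp [KleinPair.mem_sub]) (by rw [c, mul_inv_cancel_right, e1])
      (by rw [c, a2, mul_neg, neg_mul, e2, neg_neg])
  · exact k qj (by simp [KleinPair.mem_sub]) (by rw [c, a1, mul_neg, neg_mul, e1, neg_neg])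
      (by rw [c, mul_inv_cancel_right, e2])
  · refine k (qi * qj) (by simp [KleinPair.mem_sub]) ?_ ?_
    · rw [c, show qi * qj * qi * (qi * qj)⁻¹ = qi * (qj * qi * qj⁻¹) * (qi : SL(2, K))⁻¹ by group, a1]
      simp only [mul_neg, neg_mul, mul_inv_cancel_right, e1, neg_neg]
    · rw [c, show qi * qj * qj * (qi * qj)⁻¹ = qi * qj * (qi : SL(2, K))⁻¹ by group, a2]
      simp only [mul_neg, neg_mul, e2, neg_neg]

end Three

theorem exists_l [Finite K] (h : 3 < Nat.card K) : ∃ l : Kˣ, (l : K) ^ 2 ≠ 1 := by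
  obtain ⟨x, hx⟩ : IsCyclic Kˣ := inferInstance
  refine ⟨x, fun e => ?_⟩
  have := orderOf_le_of_pow_eq_one two_pos (Units.ext (by simpa using e) : x ^ 2 = 1)
  rw [orderOf_eq_card_of_forall_mem_zpowers hx, Nat.card_units] at this
  omega

/-- `Y` is a central extension of `L₂(K)` by the `2`-group `T` with Sylow `3`-subgroup `Z`. -/
structure PS {G : Type*} [Group G] (Y Z T : Subgroup G) (ψ : G → PSL(2, K)) : Prop where
  mul : ∀ {g h}, g ∈ Y → h ∈ Y → ψ (g * h) = ψ g * ψ h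
  surj : ∀ x, ∃ g ∈ Y, ψ g = x
  ker : ∀ {g}, g ∈ Y → (ψ g = 1 ↔ g ∈ T)
  TY : T ≤ Y
  ZY : Z ≤ Y
  cen : ∀ t ∈ T, ∀ g ∈ Y, Commute g t
  two : IsPGroup 2 T
  cube : ∀ z ∈ Z, z ^ 3 = 1
  Z1 : ∀ z ∈ Z, ∃ c, ψ z = pslMk K (xx c)
  Z2 : ∀ c, ∃ z ∈ Z, ψ z = pslMk K (xx c)

theorem eq_one_23 {G : Type*} [Group G] {T : Subgroup G} (h : IsPGroup 2 T) {t : G} (ht : t ∈ T) {k : ℕ}
    (e : t ^ 3 ^ k = 1) : t = 1 :=
  eq_one_of_isPGroup_of_coprime h ht (Nat.Coprime.coprime_dvd_left (orderOf_dvd_of_pow_eq_one e)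
    (Nat.Coprime.pow_left _ (by decide)))

theorem eq_of_cube {G : Type*} [Group G] {T : Subgroup G} (h : IsPGroup 2 T) {t a : G} (ht : t ∈ T)
    (c : Commute a t) (e : a ^ 3 = 1) (e' : (a * t) ^ 3 = 1) : t = 1 :=
  eq_one_23 h ht (k := 1) (by rwa [c.mul_pow, e, one_mul] at e')

theorem conj_cube {G : Type*} [Group G] {a : G} (e : a ^ 3 = 1) (g : G) : (g * a * g⁻¹) ^ 3 = 1 := by
  rw [conj_pow, e]; simp

namespace PS

variable {G : Type*} [Group G] {Y Z T : Subgroup G} {ψ : G → PSL(2, K)} (h : PS Y Z T ψ)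
include h

/-- The homomorphism. -/
def hom : Y →* PSL(2, K) := MonoidHom.mk' (fun g => ψ g) fun g k => h.mul g.2 k.2

theorem one : ψ 1 = 1 := h.hom.map_one
theorem inv {g : G} (hg : g ∈ Y) : ψ g⁻¹ = (ψ g)⁻¹ := h.hom.map_inv ⟨g, hg⟩
theorem conj {g k : G} (hg : g ∈ Y) (hk : k ∈ Y) : ψ (g * k * g⁻¹) = ψ g * ψ k * (ψ g)⁻¹ := by
  rw [h.mul (mul_mem hg hk) (inv_mem hg), h.mul hg hk, h.inv hg]
theorem eq_iff {g k : G} (hg : g ∈ Y) (hk : k ∈ Y) : ψ g = ψ k ↔ ∃ t ∈ T, k = g * t := by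
  rw [← inv_mul_eq_one, ← h.inv hg, ← h.mul (inv_mem hg) hk, h.ker (mul_mem (inv_mem hg) hk)]
  exact ⟨fun e => ⟨_, e, by group⟩, by rintro ⟨t, ht, rfl⟩; simpa using ht⟩

theorem inj {g k : G} (hg : g ∈ Y) (hk : k ∈ Y) (g3 : g ^ 3 = 1) (k3 : k ^ 3 = 1) (e : ψ g = ψ k) : g = k := by
  obtain ⟨t, ht, rfl⟩ := (h.eq_iff hg hk).1 e
  rw [eq_of_cube h.two ht (h.cen t ht g hg) g3 k3, mul_one]

theorem mem_Z {g : G} (hg : g ∈ Y) (g3 : g ^ 3 = 1) {c : K} (e : ψ g = pslMk K (xx c)) : g ∈ Z := by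
  obtain ⟨z, hz, e'⟩ := h.Z2 c
  exact h.inj hg (h.ZY hz) g3 (h.cube z hz) (e.trans e'.symm) ▸ hz

theorem card [Finite G] : Nat.card Y = Nat.card T * Nat.card PSL(2, K) := by
  have h1 : h.hom.ker = T.subgroupOf Y := Subgroup.ext fun g => h.ker g.2
  rw [← h.hom.ker.card_mul_index, index_ker, MonoidHom.range_eq_top.2 fun x => by
    obtain ⟨g, hg, e⟩ := h.surj x; exact ⟨⟨g, hg⟩, e⟩, h1, card_top,
    Nat.card_congr (subgroupOfEquivOfLe h.TY).toEquiv]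

theorem norm_Z [Finite G] {y : G} (hy : y ∈ Y) {s : SL(2, K)} (e : ψ y = pslMk K s) (hs : s 1 0 = 0) : y ∈ 𝐍[Z] :=
  mem_normalizer_of_cj_le (cj_le_iff_forall.2 fun z hz => by
    obtain ⟨c, hc⟩ := h.Z1 z hz
    refine h.mem_Z (mul_mem (mul_mem hy (h.ZY hz)) (inv_mem hy)) (conj_cube (h.cube z hz) y) (c := s 0 0 ^ 2 * c) ?_
    rw [h.conj hy (h.ZY hz), e, hc, ← borel_xx hs, map_mul, map_mul, map_inv])

theorem gen {H : Subgroup G} (hZ : Z ≤ H) (hT : T ≤ H) {n : G} (hn : n ∈ H) (hnY : n ∈ Y)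
    (e : ψ n = pslMk K qi) : Y ≤ H := fun y hy => by
  have k : ((H.subgroupOf Y).map h.hom).comap (pslMk K) = ⊤ := sl2_eq_top (fun r => by
    obtain ⟨z, hz, e⟩ := h.Z2 r
    exact ⟨⟨z, h.ZY hz⟩, hZ hz, e⟩) fun r => by
    obtain ⟨z, hz, e'⟩ := h.Z2 (-r)
    refine ⟨⟨_, mul_mem (mul_mem hnY (h.ZY hz)) (inv_mem hnY)⟩, mul_mem (mul_mem hn (hZ hz)) (inv_mem hn), ?_⟩
    change ψ _ = _
    rw [h.conj hnY (h.ZY hz), e, e', ← map_inv, ← map_mul, ← map_mul, qi_xx, neg_neg]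
  obtain ⟨s, hs⟩ := pslMk_surjective (ψ y)
  obtain ⟨g, hg, e⟩ := k.ge (mem_top s)
  obtain ⟨t, ht, rfl⟩ := (h.eq_iff g.2 hy).1 (e.trans hs)
  exact mul_mem hg (hT ht)

theorem normal {l : K} (l0 : l ≠ 0) (l1 : l ^ 2 ≠ 1) {N : Subgroup G} (h1 : N ≤ Y) (h2 : Y ≤ 𝐍[N]) :
    N ≤ T ∨ ∀ x, ∃ n ∈ N, ψ n = x := by
  have := ProjectiveSpecialLinearGroup.rank_two_simple' ⟨l, l0, l1⟩
  have := normal_subgroupOf' h2
  rcases (Normal.map this h.hom fun x => by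
    obtain ⟨g, hg, e⟩ := h.surj x; exact ⟨⟨g, hg⟩, e⟩).eq_bot_or_eq_top with e | e
  · exact Or.inl fun n hn => (h.ker (h1 hn)).1 (e.le ⟨⟨n, h1 hn⟩, hn, rfl⟩)
  · exact Or.inr fun x => by obtain ⟨g, hg, e⟩ := e.ge (mem_top x); exact ⟨g, hg, e⟩

variable [CharP K 3]

theorem card_Z : Nat.card Z = Nat.card K := by
  choose f hf using h.Z1
  refine Nat.card_congr (Equiv.ofBijective (fun z => f z z.2) ⟨fun z w e => Subtype.ext (h.inj (h.ZY z.2)
    (h.ZY w.2) (h.cube _ z.2) (h.cube _ w.2) (by rw [hf _ z.2, hf _ w.2]; exact congrArg _ (congrArg _ e))),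
    fun c => ?_⟩)
  obtain ⟨z, hz, e⟩ := h.Z2 c
  exact ⟨⟨z, hz⟩, mk_xx_inj ((hf z hz).symm.trans e)⟩

theorem ne_zero {z : G} (hz : z ∈ Z) (z1 : z ≠ 1) {c : K} (e : ψ z = pslMk K (xx c)) : c ≠ 0 := by
  rintro rfl
  exact z1 (h.inj (h.ZY hz) (one_mem _) (h.cube z hz) (one_pow _) (by rw [e, h.one, xx_zero, map_one]))

variable [Finite G]

theorem exists_fpf {l : K} (l0 : l ≠ 0) (l1 : l ^ 2 ≠ 1) : ∃ y ∈ Y, y ∈ 𝐍[Z] ∧ ψ y = pslMk K (dg (Units.mk0 l l0)) ∧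
    ∀ z ∈ Z, Commute y z → z = 1 := by
  obtain ⟨y, hy, e⟩ := h.surj (pslMk K (dg (Units.mk0 l l0)))
  refine ⟨y, hy, h.norm_Z hy e (by simp), e, fun z hz hc => by_contra fun z1 => ?_⟩
  obtain ⟨c, hc'⟩ := h.Z1 z hz
  have := h.conj hy (h.ZY hz)
  rw [conj_of_comm hc, e, hc', ← map_inv, ← map_mul, ← map_mul, dg_xx] at this
  exact l1 (mul_right_cancel₀ (h.ne_zero hz z1 hc') ((mk_xx_inj this).symm.trans (one_mul c).symm))

theorem trans (sq : ∀ a : K, IsSquare a ∨ IsSquare (-a)) {z w : G} (hz : z ∈ Z) (hw : w ∈ Z) (z1 : z ≠ 1)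
    (w1 : w ≠ 1) : ∃ y ∈ Y, y ∈ 𝐍[Z] ∧ (y * z * y⁻¹ = w ∨ y * z * y⁻¹ = w⁻¹) := by
  have k : ∀ w ∈ Z, ∀ c d l : K, ψ z = pslMk K (xx c) → ψ w = pslMk K (xx d) → l ≠ 0 → d = l ^ 2 * c →
      ∃ y ∈ Y, y ∈ 𝐍[Z] ∧ y * z * y⁻¹ = w := fun w hw c d l e1 e2 l0 e => by
    obtain ⟨y, hy, e3⟩ := h.surj (pslMk K (dg (Units.mk0 l l0)))
    refine ⟨y, hy, h.norm_Z hy e3 (by simp), h.inj (mul_mem (mul_mem hy (h.ZY hz)) (inv_mem hy)) (h.ZY hw)
      (conj_cube (h.cube z hz) y) (h.cube w hw) ?_⟩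
    rw [h.conj hy (h.ZY hz), e1, e2, e3, ← map_inv, ← map_mul, ← map_mul, dg_xx, e]; rfl
  obtain ⟨c, hc⟩ := h.Z1 z hz
  obtain ⟨d, hd⟩ := h.Z1 w hw
  have c0 := h.ne_zero hz z1 hc
  have d0 := h.ne_zero hw w1 hd
  rcases sq (d / c) with ⟨l, hl⟩ | ⟨l, hl⟩
  · obtain ⟨y, h1, h2, h3⟩ := k w hw c d l hc hd (by rintro rfl; simp [c0, d0] at hl)
      (by rw [pow_two, ← hl]; field_simp)
    exact ⟨y, h1, h2, Or.inl h3⟩
  · obtain ⟨y, h1, h2, h3⟩ := k w⁻¹ (inv_mem hw) c (-d) l hc (by rw [h.inv (h.ZY hw), hd, ← map_inv, xx_inv])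
      (by rintro rfl; simp [c0, d0] at hl) (by rw [pow_two, ← hl]; field_simp)
    exact ⟨y, h1, h2, Or.inr h3⟩

theorem aut (nsq : ¬ IsSquare (-1 : K)) {l : K} (l0 : l ≠ 0) (l1 : l ^ 2 ≠ 1) {g : G} (hg : g ∈ 𝐍[Y]) (g3 : g ^ 3 = 1)
    (hc : ∀ y ∈ Y, y ∈ 𝐍[Z] → Commute y g) : Y ≤ centralizer {g} := by
  obtain ⟨n, hn, en⟩ := h.surj (pslMk K qi)
  obtain ⟨y, hy, hyZ, ey, -⟩ := h.exists_fpf l0 l1
  have hn' := conj_mem_of_mem_normalizer hg hn
  have k1 : Commute (n * y * n⁻¹) g := hc _ (mul_mem (mul_mem hn hy) (inv_mem hn)) (h.norm_Z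
    (mul_mem (mul_mem hn hy) (inv_mem hn)) (s := qi * dg (Units.mk0 l l0) * qi⁻¹)
    (by rw [h.conj hn hy, en, ey, map_mul, map_mul, map_inv]) (by simp))
  obtain ⟨c, hc'⟩ : ∃ c, c = n⁻¹ * (g * n * g⁻¹) := ⟨_, rfl⟩
  have cY : c ∈ Y := hc' ▸ mul_mem (inv_mem hn) hn'
  have k2 : c * y * c⁻¹ = y := by
    calc _ = n⁻¹ * (g * (n * (g⁻¹ * y * g) * n⁻¹) * g⁻¹) * n := by rw [hc']; group
      _ = y := by rw [mul_assoc g⁻¹, (hc y hy hyZ).eq, inv_mul_cancel_left, conj_of_comm k1.symm]; group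
  obtain ⟨s, hs⟩ := pslMk_surjective (ψ c)
  have k3 := h.conj cY hy
  rw [k2, ey, ← hs, ← map_inv, ← map_mul, ← map_mul, pslMk_eq_iff, mul_inv_eq_iff_eq_mul,
    mul_inv_eq_iff_eq_mul] at k3
  have hd := sl2_det s
  have k4 : s 1 0 = 0 ∧ s 0 1 = 0 := by
    rcases k3 with e | e
    · have e1 := congrArg (· 1 0) e
      have e2 := congrArg (· 0 1) e
      simp at e1 e2
      field_simp at e1 e2
      exact ⟨(mul_eq_zero.1 (show s 1 0 * (l ^ 2 - 1) = 0 by linear_combination e1)).resolve_right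
        (sub_ne_zero.2 l1), (mul_eq_zero.1 (show s 0 1 * (l ^ 2 - 1) = 0 by
          linear_combination -e2)).resolve_right (sub_ne_zero.2 l1)⟩
    · exfalso
      have e1 := congrArg (· 0 0) e
      have e2 := congrArg (· 0 1) e
      simp [vecMul, dotProduct] at e1 e2
      field_simp at e2
      have e3 : s 0 0 = 0 := (mul_eq_zero.1 (show s 0 0 * (2 * l) = 0 by linear_combination e1)).resolve_right
        (mul_ne_zero two3 l0)
      have e4 : s 0 1 ≠ 0 := fun e4 => by simp [e3, e4] at hd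
      exact nsq ⟨l, mul_left_cancel₀ e4 (by linear_combination -e2)⟩
  have k5 := hc c cY (h.norm_Z cY hs.symm k4.1)
  have k6 : ∀ j : ℕ, g ^ j * n * (g ^ j)⁻¹ = n * c ^ j := fun j => by
    induction j with
    | zero => simp
    | succ j ih =>
      calc _ = g * (g ^ j * n * (g ^ j)⁻¹) * g⁻¹ := by rw [pow_succ']; group
        _ = g * n * g⁻¹ * (g * c ^ j * g⁻¹) := by rw [ih]; group
        _ = _ := by rw [conj_of_comm (k5.pow_left j).symm, pow_succ', ← mul_assoc, hc', mul_inv_cancel_left]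
  have k7 : c ^ 3 = 1 := by simpa [g3] using (k6 3).symm
  have k8 : s ^ 3 = 1 ∨ s ^ 3 = -1 := pslMk_eq_one_iff.1 (by
    rw [map_pow, hs, ← h.one, ← k7]; exact (h.hom.map_pow ⟨c, cY⟩ 3).symm)
  have k9 : (s 0 0 ^ 2 - 1) ^ 3 = 0 := by
    rw [sub_pow_char, ← pow_mul, mul_comm, pow_mul, ← (borel_pow k4.1 3).2]
    rcases k8 with e | e <;> simp [e]
  have k10 : c = 1 := h.inj cY (one_mem _) k7 (one_pow _) (by
    rw [← hs, h.one, pslMk_eq_one_iff]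
    rw [k4.1, mul_zero, sub_zero] at hd
    refine (sq_eq_one_iff.1 (sub_eq_zero.1 (pow_eq_zero_iff three_ne_zero |>.1 k9))).imp (fun e => ?_) fun e => ?_ <;>
      rw [e] at hd <;> apply sl2_ext <;> simp [e, k4.1, k4.2]
    · simpa using hd
    · linear_combination -hd)
  refine h.gen (fun z hz => mem_cent.2 (hc z (h.ZY hz) (le_normalizer hz))) (fun t ht => mem_cent.2
    (hc t (h.TY ht) (centralizer_le_normalizer' _ fun z hz => h.cen t ht z (h.ZY hz)))) ?_ hn en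
  rw [k10, eq_comm, inv_mul_eq_one] at hc'
  exact mem_cent.2 (comm_of_conj hc'.symm).symm

/-- The preimage of the four-group. -/
def V : Subgroup G := ((quat (F := K)).kleinPair.sub.comap h.hom).map Y.subtype

omit [Finite G] in
theorem mem_V {y : G} : y ∈ h.V ↔ y ∈ Y ∧ ψ y ∈ (quat (F := K)).kleinPair.sub :=
  ⟨by rintro ⟨⟨y, hy⟩, e, rfl⟩; exact ⟨hy, e⟩, fun ⟨hy, e⟩ => ⟨⟨y, hy⟩, e, rfl⟩⟩

theorem syl_V [Fintype K] (h8 : Fintype.card K % 8 = 3) : IsSyl 2 h.V Y := by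
  have hs : Function.Surjective h.hom := fun x => by obtain ⟨g, hg, e⟩ := h.surj x; exact ⟨⟨g, hg⟩, e⟩
  have h4 := (quat (F := K)).kleinPair.isKleinFour.card_four
  refine isSyl_of_not_dvd_relIndex (IsPGroup.map (IsPGroup.comap_of_ker_isPGroup (IsPGroup.of_card (n := 2) h4) _
    ((show h.hom.ker = T.subgroupOf Y from Subgroup.ext fun g => h.ker g.2) ▸ isPGroup_subgroupOf h.two Y)) _)
    (map_subtype_le _) ?_
  rw [V, relIndex, map_subtype_subgroupOf, index_comap_of_surjective _ hs]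
  have h1 := (quat (F := K)).kleinPair.sub.card_mul_index
  have h2 := two_mul_card_PSL (two3 (F := K))
  rw [← h1, h4, Class.card_SL2] at h2
  obtain ⟨k, hk⟩ : ∃ k, Fintype.card K = 8 * k + 3 := ⟨Fintype.card K / 8, by omega⟩
  rw [hk, show (8 * k + 3) ^ 2 = 8 * (8 * k ^ 2 + 6 * k + 1) + 1 by ring, Nat.add_sub_cancel] at h2
  rintro ⟨j, hj⟩
  rw [hj, show (8 * k + 3) * (8 * (8 * k ^ 2 + 6 * k + 1)) = 16 * (32 * k ^ 3 + 36 * k ^ 2 + 13 * k + 1) + 8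
    by ring] at h2
  omega

omit [Finite G] in
theorem cent_V {y : G} (hy : y ∈ Y) (hc : ∀ v ∈ h.V, Commute y v) : y ∈ h.V := by
  have k : ∀ x ∈ (quat (F := K)).kleinPair.sub, Commute (ψ y) x := fun x hx => by
    obtain ⟨v, hv, rfl⟩ := h.surj x
    exact (h.mul hy hv).symm.trans ((congrArg ψ (hc v (h.mem_V.2 ⟨hv, hx⟩))).trans (h.mul hv hy))
  exact h.mem_V.2 ⟨hy, mem_four (k _ (by simp [KleinPair.mem_sub])) (k _ (by simp [KleinPair.mem_sub]))⟩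

theorem norm_V {z : G} (hz : z ∈ Y) (e : ψ z = pslMk K (xx 1)) : z ∈ 𝐍[h.V] :=
  mem_normalizer_of_cj_le (cj_le_iff_forall.2 fun v hv => by
    obtain ⟨h1, h2⟩ := h.mem_V.1 hv
    refine h.mem_V.2 ⟨mul_mem (mul_mem hz h1) (inv_mem hz), ?_⟩
    have a1 : pslMk K (xx 1) * pslMk K qi * (pslMk K (xx 1))⁻¹ ∈ (quat (F := K)).kleinPair.sub := by
      rw [← map_inv, ← map_mul, ← map_mul, xx_qi]; simp [KleinPair.mem_sub]
    have a2 : pslMk K (xx 1) * pslMk K qj * (pslMk K (xx 1))⁻¹ ∈ (quat (F := K)).kleinPair.sub := by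
      rw [← map_inv, ← map_mul, ← map_mul, xx_qj, quat.anticomm, pslMk_neg]; simp [KleinPair.mem_sub]
    rw [h.conj hz h1, e]
    rcases h2 with e | e | e | e <;> rw [e]
    · simp
    · exact a1
    · exact a2
    · simpa using mul_mem a1 a2)

end PS

end Cfsg.Agent.Hay
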