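import Cfsg.Agent.Hay.Act
import Cfsg.Agent.Loc3.Tools2
import Cfsg.Agent.Class.SL2Quat

/-! Centralizers in `q^{1+2} : SL₂(q)` (characteristic 3) and the semilinear action of `N(Z) ∩ N(M) ∩ C(t)`. -/

set_option autoImplicit false

namespace Cfsg.Agent.Hay

open Cfsg Subgroup Matrix Cfsg.Agent.RootSub Cfsg.Agent.PLocal.Amb Cfsg.Agent.Loc3 Cfsg.Agent.Class.Dickson
open scoped MatrixGroups

variable {F : Type*} [Field F]

/-- First generator of the quaternion group. -/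
def qi : SL(2, F) := ⟨!![0, 1; -1, 0], by simp [det_fin_two]⟩
/-- Second generator of the quaternion group (characteristic 3). -/
def qj : SL(2, F) := ⟨!![-1, 2; -1, 1], by simp [det_fin_two]; ring⟩

@[simp] theorem qi_coe : ((qi : SL(2, F)) : Matrix (Fin 2) (Fin 2) F) = !![0, 1; -1, 0] := rfl
@[simp] theorem qj_coe : ((qj : SL(2, F)) : Matrix (Fin 2) (Fin 2) F) = !![-1, 2; -1, 1] := rfl

theorem qi_sq : (qi : SL(2, F)) * qi = -1 := by apply sl2_ext <;> simp
theorem qj_sq : (qj : SL(2, F)) * qj = -1 := by apply sl2_ext <;> simp <;> ring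
theorem xx_qi : xx 1 * qi * (xx 1)⁻¹ = (qj : SL(2, F)) := by apply sl2_ext <;> simp; ring
theorem qi_xx (c : F) : qi * xx c * qi⁻¹ = yy (-c) := by apply sl2_ext <;> simp
theorem tt_sq : (tt : CM F) * tt = 1 := by apply CM.ext' <;> simp
theorem inl_neg : inl (-1) = (tt : CM F) := rfl
theorem inl_xx (c : F) : inl (xx c) = mm 0 0 c := rfl
theorem bb_tt : bb 0 (-1) = (tt : CM F) := by apply CM.ext' <;> simp
theorem bb_zero (l : Fˣ) : bb 0 l = inl (dg l) := by apply CM.ext' <;> simp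
theorem tt_conj (a b c : F) : tt * mm a b c * tt⁻¹ = mm a (-b) c := by rw [← bb_tt, bb_conj]; simp
theorem inl_tt (g : SL(2, F)) : Commute (inl g) tt := by apply CM.ext' <;> simp
theorem eq_of_tt {p : CM F} (hx : p.x = 0) (hy : p.y = 0) : p = mm p.a 0 0 * inl p.g := by
  apply CM.ext' <;> simp [hx, hy]

section Three
variable [CharP F 3]

theorem three : (3 : F) = 0 := by exact_mod_cast CharP.cast_eq_zero F 3
theorem two3 : (2 : F) ≠ 0 := fun e => one_ne_zero (by linear_combination three (F := F) - e : (1 : F) = 0)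
theorem xx_qj : xx 1 * qj * (xx 1)⁻¹ = (qj * qi : SL(2, F)) := by
  apply sl2_ext <;> simp
  · ring
  · linear_combination 2 * three (F := F)
  · linear_combination three (F := F)
theorem quat : QuatPair (qi : SL(2, F)) qj := ⟨two3, by simp [trace_fin_two], by
  apply sl2_ext <;> simp
  · linear_combination -three (F := F)
  · linear_combination 2 * three (F := F)
  · linear_combination -three (F := F)
  · linear_combination three (F := F)⟩
theorem mm_cube (a b c : F) : mm a b c ^ 3 = 1 := by rw [mm_pow]; simp [three, mm_zero]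
theorem tt_ne : (tt : CM F) ≠ 1 := fun e => neg_one_ne_one_SL two3 (congrArg CM.g e)

theorem of_comm_tt {p : CM F} (h : Commute p tt) : p.x = 0 ∧ p.y = 0 := by
  have h1 := CM.eq_iff.1 h.eq
  simp at h1
  exact ⟨(mul_eq_zero.1 (show 2 * p.x = 0 by linear_combination h1.1)).resolve_left two3,
    (mul_eq_zero.1 (show 2 * p.y = 0 by linear_combination h1.2)).resolve_left two3⟩

theorem of_comm_Q {p : CM F} (h1 : Commute p (inl qi)) (h2 : Commute p (inl qj)) :
    p = mm p.a 0 0 ∨ p = mm p.a 0 0 * tt := by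
  obtain ⟨hx, hy⟩ := of_comm_tt (p := p) (by rw [← inl_neg, ← qi_sq, map_mul]; exact h1.mul_right h1)
  have := quat.eq_of_centralizes (conj_of_comm (h1.map pr)) (conj_of_comm (h2.map pr))
  refine this.imp (fun e => ?_) fun e => ?_ <;> rw [pr_apply] at e <;> apply CM.ext' <;> simp [hx, hy, e]

omit [CharP F 3] in
theorem of_comm_u {p : CM F} {a c : F} (hc : c ≠ 0) (h : Commute p (mm a 0 c)) :
    ∃ a b c, p = mm a b c ∨ p = mm a b c * tt := by
  have h1 := CM.eq_iff.1 h.eq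
  have h2 := sl2_det p.g
  simp [hc] at h1
  obtain ⟨k1, -, k2, k3⟩ := h1
  have k4 : p.g 1 1 = p.g 0 0 := mul_left_cancel₀ hc (by linear_combination -k3.1)
  rw [k2, k4, mul_zero, sub_zero, mul_self_eq_one_iff] at h2
  rcases h2 with e | e
  · exact ⟨p.a, p.x, p.g 0 1, Or.inl (by apply CM.ext' <;> simp [k1, k2, k4, e])⟩
  · exact ⟨p.a, p.x, -p.g 0 1, Or.inr (by apply CM.ext' <;> simp [k1, k2, k4, e])⟩

theorem not_odd {a b c : F} {k : ℕ} : (mm a b c * tt) ^ 3 ^ k ≠ 1 := fun e => by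
  have h1 := (borel_pow (g := pr (mm a b c * tt)) (by simp) (3 ^ k)).2
  rw [← map_pow, e, map_one] at h1
  simp [(Odd.pow (by decide) : Odd (3 ^ k)).neg_one_pow] at h1
  exact two3 (by linear_combination h1 : (2 : F) = 0)

theorem eq_zero_of_cop {a b c : F} {n : ℕ} (hn : n.Coprime 3) (h : mm a b c ^ n = 1) : mm a b c = 1 :=
  orderOf_eq_one_iff.1 (Nat.eq_one_of_dvd_coprimes hn (orderOf_dvd_of_pow_eq_one h)
    (orderOf_dvd_of_pow_eq_one (mm_cube a b c)))

end Three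

theorem not_neg (nsq : ¬ IsSquare (-1 : F)) [Finite F] (σ : F →+* F) {γ a : F} (hγ : γ ≠ 0) (ha : a ≠ 0) :
    γ ^ 2 * σ a ≠ -a := fun e => by
  have k : ∀ y : F, y ≠ 0 → γ ^ 2 * σ (y * y) ≠ -(y * y) := fun y hy e =>
    nsq ⟨γ * σ y / y, by rw [map_mul] at e; field_simp; linear_combination -e⟩
  rcases sq_of nsq a with ⟨y, rfl⟩ | ⟨y, hy⟩
  · exact k y (fun e => ha (by rw [e, mul_zero])) e
  · refine k y (fun e => ha (by rw [e] at hy; linear_combination -hy)) ?_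
    rw [← hy, map_neg]; linear_combination -e

namespace HS

variable {G : Type*} [Group G] {ι : CM F →* G} (h : HS ι)
include h

theorem comm {p q : CM F} : Commute (ι p) (ι q) ↔ Commute p q :=
  ⟨fun e => h.inj (by rw [map_mul, map_mul]; exact e), fun e => e.map ι⟩

theorem range_conj {n : G} (hn : n ∈ 𝐍[(Z0 F).map ι]) (p : CM F) : ∃ q, ι q = n * ι p * n⁻¹ := by
  have := normalizer_le_normalizer_centralizer _ hn
  rw [h.cent_Z] at this
  exact conj_mem_of_mem_normalizer this ⟨p, rfl⟩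

variable [Finite G] [CharP F 3]

theorem mem_M {g : G} {k : ℕ} (h3 : g ^ 3 ^ k = 1) {a a' c : F} (ha : a ≠ 0) (hc : c ≠ 0)
    (h1 : Commute g (ι (mm a 0 0))) (h2 : Commute g (ι (mm a' 0 c))) : g ∈ (M0 F).map ι := by
  obtain ⟨p, rfl⟩ := h.mem_of_comm ha h1
  obtain ⟨x, y, z, rfl | rfl⟩ := of_comm_u hc (h.comm.1 h2)
  · exact mem_map_of_mem ι (mm_mem ..)
  · exact absurd (h.inj (by rw [map_pow, h3, map_one])) not_odd

theorem norm_M {n : G} (hn : n ∈ 𝐍[(Z0 F).map ι]) {a c a' c' : F} (hc : c ≠ 0)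
    (e : n * ι (mm a 0 c) * n⁻¹ = ι (mm a' 0 c')) : n ∈ 𝐍[(M0 F).map ι] := by
  have hc' : c' ≠ 0 := by
    rintro rfl
    obtain ⟨_, ⟨b, rfl⟩, hb⟩ := inv_conj_mem_of_mem_normalizer hn (mem_map_of_mem ι ⟨a', rfl⟩)
    rw [← e] at hb
    exact hc (mm_inj (h.inj (hb.trans (by group : _ = ι (mm a 0 c))))).2.2.symm
  refine mem_normalizer_of_cj_le (cj_le_iff_forall.2 ?_)
  rintro _ ⟨_, ⟨v, rfl⟩, rfl⟩
  obtain ⟨p, hp⟩ := h.range_conj hn (mH v)
  refine h.mem_M (k := 1) ?_ one_ne_zero hc' (a' := a') ?_ ?_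
  · rw [pow_one, conj_pow, ← map_pow]
    exact conj_eq_one_iff.2 ((congrArg ι (mm_cube ..)).trans ι.map_one)
  · rw [← hp]; exact h.comm.2 (zz_comm ..)
  · rw [← e]
    exact Commute.cj (M_comm _ (mem_map_of_mem ι ⟨v, rfl⟩) _ (mem_map_of_mem ι (mm_mem ..))) n

theorem semi {l : F} (l0 : l ≠ 0) (l1 : l ^ 2 ≠ 1) {n : G} (hM : n ∈ 𝐍[(M0 F).map ι])
    (hZ : n ∈ 𝐍[(Z0 F).map ι]) (ht : Commute n (ι tt)) : ∃ (σ : F →+* F) (γ η : F), γ ≠ 0 ∧ η ≠ 0 ∧
      ∀ a b c, n * ι (mm a b c) * n⁻¹ = ι (mm (γ ^ 2 / η * σ a) (γ * σ b) (η * σ c)) := by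
  obtain ⟨ρ, hρ⟩ := h.exists_rho
  have h2 := two3 (F := F)
  obtain ⟨r, hr, ri⟩ : ∃ r : F × F × F → F × F × F, (∀ v, ι (mv (r v)) = n * ι (mv v) * n⁻¹) ∧
    Function.Injective r := ⟨ρ ⟨n, hM⟩, hρ ⟨n, hM⟩, (ρ _).injective⟩
  have ad : ∀ v w, r (v + w) = r v + r w := fun v w => mv_inj (h.inj (by
    rw [mv_add, map_mul, hr, hr, hr, mv_add, map_mul]; group))
  have r0 : r 0 = 0 := by have := ad 0 0; rwa [add_zero, left_eq_add] at this
  have cj : ∀ s (l : Fˣ), ∃ s' l', ∀ v, r (sy 1 (s * l) 0 l v) = sy 1 s' 0 l' (r v) := fun s l => by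
    obtain ⟨p, hp⟩ := h.range_conj hZ (bb s l)
    obtain ⟨a, b, c, s', l', rfl⟩ := borel_eq (h.borel_of_mem (p := p)
      (hp ▸ mul_mem (mul_mem hM (h.bb_norm s l)) (inv_mem hM)))
    refine ⟨s' * l', l', fun v => mv_inj (h.inj ?_)⟩
    rw [← borel_conj a b c, hr, ← bb_conj', map_mul, map_mul, map_mul, map_mul, map_inv, map_inv, hp, hr]; group
  have ct : ∀ a b c, r (a, -b, c) = ((r (a, b, c)).1, -(r (a, b, c)).2.1, (r (a, b, c)).2.2) := fun a b c =>
    mv_inj (h.inj (by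
      have k := hr (a, b, c)
      rw [mv, mv] at k
      rw [hr, mv, mv, ← tt_conj, ← tt_conj, map_mul, map_mul, map_mul, map_mul, map_inv, k, ← mul_assoc,
        ← mul_assoc, ht.eq, mul_assoc _ (ι tt)⁻¹, (ht.inv_inv).symm.eq]
      group))
  obtain ⟨ζ, hζ⟩ : ∃ f : F → F, ∀ a, r (a, 0, 0) = (f a, 0, 0) := by
    have : ∀ a, ∃ b, r (a, 0, 0) = (b, 0, 0) := fun a => by
      obtain ⟨_, ⟨b, rfl⟩, hb⟩ := conj_mem_of_mem_normalizer hZ (mem_map_of_mem ι ⟨a, rfl⟩)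
      exact ⟨b, mv_inj (h.inj ((hr _).trans hb.symm))⟩
    exact ⟨_, fun a => (this a).choose_spec⟩
  obtain ⟨α, hα⟩ : ∃ f : F → F, ∀ a, r (0, a, 0) = (0, f a, 0) := ⟨fun a => (r (0, a, 0)).2.1, fun a => by
    have k := ad (0, a, 0) (0, -a, 0)
    rw [ct, show (((0 : F), a, (0 : F)) + (0, -a, 0) : F × F × F) = 0 by simp, r0] at k
    simp only [Prod.ext_iff, Prod.fst_add, Prod.snd_add, Prod.fst_zero, Prod.snd_zero] at k ⊢
    exact ⟨(mul_eq_zero.1 (show (2 : F) * _ = 0 by linear_combination -k.1)).resolve_left h2, trivial,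
      (mul_eq_zero.1 (show (2 : F) * _ = 0 by linear_combination -k.2.2)).resolve_left h2⟩⟩
  obtain ⟨φ, η, hη⟩ : ∃ φ η : F → F, ∀ a, r (0, 0, a) = (φ a, 0, η a) :=
    ⟨fun a => (r (0, 0, a)).1, fun a => (r (0, 0, a)).2.2, fun a => by
      have k := congrArg (·.2.1) (ct 0 0 a)
      rw [neg_zero] at k
      exact Prod.ext rfl (Prod.ext ((mul_eq_zero.1 (show (2 : F) * _ = 0 by
        linear_combination k)).resolve_left h2) rfl)⟩
  have e : ∀ a b c, r (a, b, c) = (ζ a + φ c, α b, η c) := fun a b c => by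
    rw [show ((a, b, c) : F × F × F) = (a, 0, 0) + ((0, b, 0) + (0, 0, c)) by simp, ad, ad, hζ, hα, hη]; simp
  have a0 := e 0 0 0
  rw [show (((0 : F), (0 : F), (0 : F)) : F × F × F) = 0 from rfl, r0] at a0
  have ζ0 : ζ 0 = 0 := (congrArg Prod.fst ((hζ 0).symm.trans r0))
  have φ0 : φ 0 = 0 := (congrArg Prod.fst ((hη 0).symm.trans r0))
  have α0 : α 0 = 0 := (congrArg (·.2.1) a0).symm
  have η0 : η 0 = 0 := (congrArg (·.2.2) a0).symm
  have α1 : α 1 ≠ 0 := fun e1 => one_ne_zero (congrArg (·.2.1) (ri ((hα 1).trans (by rw [e1]; exact r0.symm))))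
  have η1 : η 1 ≠ 0 := fun e1 => by
    obtain ⟨_, ⟨b, rfl⟩, hb⟩ := inv_conj_mem_of_mem_normalizer hZ (mem_map_of_mem ι ⟨φ 1, rfl⟩)
    have k := hr (0, 0, 1)
    rw [hη, e1] at k
    change ι (mm _ 0 0) = _ at k
    rw [k] at hb
    exact one_ne_zero (mm_inj (h.inj (hb.trans (by rw [mv]; group : _ = ι (mm 0 0 1))))).2.2.symm
  have ad' : ∀ a b, ζ (a + b) = ζ a + ζ b ∧ α (a + b) = α a + α b ∧ φ (a + b) = φ a + φ b := fun a b => by
    have k1 := ad (a, a, 0) (b, b, 0)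
    have k2 := ad (0, 0, a) (0, 0, b)
    simp only [Prod.mk_add_mk, e, Prod.mk.injEq, add_zero, φ0, ζ0, zero_add] at k1 k2
    exact ⟨k1.1, k1.2.1, k2.1⟩
  have φz : ∀ c, φ c = 0 := fun c => by
    obtain ⟨s', l', k⟩ := cj 0 (Units.mk0 l l0)
    have k1 := k (0, 0, 1)
    have k2 := k (0, 0, c / (l ^ 2 - 1))
    simp [sy, e, α0, η1, ζ0] at k1 k2
    have k3 : s' = 0 := by
      rcases k1.2.1 with k3 | k3
      · exact k3
      · have k4 := k (0, 1, 0)
        have k5 := ri (a₁ := (0, l, 0)) (a₂ := 0)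
        simp [sy, e, k3, r0, ζ0, φ0, η0, l0] at k4 k5
        exact absurd k4.2 (α0 ▸ k5)
    have k4 := (ad' (c / (l ^ 2 - 1)) c).2.2
    have := sub_ne_zero.2 l1
    rw [show c / (l ^ 2 - 1) + c = l ^ 2 * (c / (l ^ 2 - 1)) by field_simp; ring, k2.1, k3] at k4
    linear_combination -k4
  have k : ∀ s, ∃ s', (∀ b, ζ (s * b) = s' * α b) ∧ ∀ c, α (s * c) = s' * η c := fun s => by
    obtain ⟨s', l', k⟩ := cj s 1
    have k1 := k (0, 1, 0)
    simp [sy, e, φz, η0, α1] at k1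
    refine ⟨s', fun b => ?_, fun c => ?_⟩
    · have k2 := k (0, b, 0)
      have k3 := (ad' (s * b) (s * b)).1
      simp [sy, e, φz, η0, ζ0] at k2
      rw [← two_mul, ← mul_assoc, k2.1] at k3
      exact mul_left_cancel₀ h2 (by linear_combination -k3)
    · have k2 := k (0, 0, c)
      simp [sy, e, φz, α0, k1.2] at k2
      exact k2.2
  choose β k1 k2 using k
  have k3 : ∀ s, β s = α s / η 1 := fun s => by rw [← mul_one s, k2, mul_one]; field_simp
  have k4 : ∀ s, η s = η 1 * (α s / α 1) := fun s => by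
    have := k2 1 s; rw [k3, one_mul] at this; rw [this]; field_simp
  let σ : F →+* F :=
    { toFun := fun s => α s / α 1
      map_one' := div_self α1
      map_mul' := fun s t => by rw [k2, k3, k4 t]; field_simp
      map_zero' := by rw [α0, zero_div]
      map_add' := fun s t => by rw [(ad' s t).2.1, add_div] }
  refine ⟨σ, α 1, η 1, α1, η1, fun a b c => ((hr (a, b, c)).symm.trans ?_)⟩
  rw [e, mv, φz, add_zero, ← mul_one a, k1, k3, mul_one, k4 c]
  congr 2 <;> change _ = _ * (α _ / α 1) <;> field_simp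

end HS

end Cfsg.Agent.Hay
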